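import Groth.Agent.DenseUnitLib.FlatDescent
import Groth.Agent.EtPtsLib.IntegralBCIso

/-!
# Base change for sheaves of sets along flat morphisms with geometrically connected factorizations
-/

set_option autoImplicit false
set_option linter.unusedSectionVars false
set_option linter.style.haveILetI false
set_option backward.isDefEq.respectTransparency false
set_option backward.isDefEq.respectTransparency.types false
set_option maxHeartbeats 1000000

universe u

open CategoryTheory CategoryTheory.Limits AlgebraicGeometry Opposite Topology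
open Groth.Agent.EtPtsLib

noncomputable section

namespace Groth.Agent.DenseUnitLib

/-- Cancellation of etale morphisms for flatness. -/
theorem flat_of_comp_etale {U V S : Scheme.{u}} (a : U ⟶ V) (b : V ⟶ S) [Etale b] (k : U ⟶ S) [Flat k]
    (hk : a ≫ b = k) : Flat a := by
  let γ : U ⟶ pullback k b := pullback.lift (𝟙 _) a (by rw [Category.id_comp, hk])
  haveI : Etale (pullback.fst k b) := MorphismProperty.pullback_fst _ _ ‹_›
  haveI : Etale γ := by
    haveI : Etale (γ ≫ pullback.fst k b) := by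
      rw [show γ ≫ pullback.fst k b = 𝟙 _ from pullback.lift_fst _ _ _]
      infer_instance
    exact MorphismProperty.of_postcomp (W := @Etale) (W' := @Etale) γ (pullback.fst k b) inferInstance ‹_›
  haveI : Flat (pullback.snd k b) := MorphismProperty.pullback_snd (P := @Flat) _ _ ‹_›
  rw [← (pullback.lift_snd _ _ _ : γ ≫ pullback.snd k b = a)]
  infer_instance

/-- A lift of a flat quasi-compact map with geometrically connected fibres to an etale scheme over the
target has open image. -/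
theorem isOpen_range_lift {U V V'' : Scheme.{u}} (a : U ⟶ V) [Flat a] [QuasiCompact a] [GeometricallyConnected a]
    (w : V'' ⟶ V) [Etale w] (p : U ⟶ V'') (hp : p ≫ w = a) : IsOpen (Set.range p) := by
  let a'' := pullback.snd a w
  let γ : U ⟶ pullback a w := pullback.lift (𝟙 _) p (by rw [Category.id_comp, hp])
  haveI : Etale (pullback.fst a w) := MorphismProperty.pullback_fst _ _ ‹_›
  haveI : Etale γ := by
    haveI : Etale (γ ≫ pullback.fst a w) := by
      rw [show γ ≫ pullback.fst a w = 𝟙 _ from pullback.lift_fst _ _ _]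
      infer_instance
    exact MorphismProperty.of_postcomp (W := @Etale) (W' := @Etale) γ (pullback.fst a w) inferInstance ‹_›
  haveI : Flat a'' := MorphismProperty.pullback_snd (P := @Flat) _ _ ‹_›
  haveI : QuasiCompact a'' := MorphismProperty.pullback_snd (P := @QuasiCompact) _ _ ‹_›
  haveI : LocallyQuasiFinite w := by
    haveI : Etale (pullback.fst w w) := MorphismProperty.pullback_fst _ _ ‹_›
    exact ASp.locallyQuasiFinite_of_etale_self w
  have hconst : ∀ u u' : U, a u = a u' → p u = p u' := by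
    intro u u' h
    haveI := isDiscrete_iff_discreteTopology.1 (w.isDiscrete_preimage_singleton (a u))
    have hmem : ∀ x ∈ a ⁻¹' {a u}, p x ∈ w ⁻¹' {a u} := fun x hx => by
      show w (p x) = a u
      rw [← Scheme.Hom.comp_apply, hp]
      exact hx
    have hsub : (Set.range fun x : a ⁻¹' {a u} => (⟨p x, hmem x x.2⟩ : w ⁻¹' {a u})).Subsingleton := by
      haveI : PreconnectedSpace (a ⁻¹' {a u}) :=
        Subtype.preconnectedSpace (a.isConnected_preimage_singleton (a u)).isPreconnected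
      exact (isPreconnected_range (Continuous.subtype_mk (p.continuous.comp continuous_subtype_val) _)).subsingleton
    exact congrArg Subtype.val (hsub ⟨⟨u, rfl⟩, rfl⟩ ⟨⟨u', h.symm⟩, rfl⟩)
  have hopen : IsOpen (Set.range γ) := γ.isOpenMap.isOpen_range
  have hsat : a'' ⁻¹' Set.range p ⊆ Set.range γ := by
    intro z hz
    obtain ⟨u₀, hu₀⟩ := hz
    have hpz : ∀ c ∈ a'' ⁻¹' {a'' z}, p (pullback.fst a w c) = a'' z := fun c hc => by
      refine (hconst _ u₀ ?_).trans hu₀
      have h1 : a (pullback.fst a w c) = w (a'' c) :=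
        congrArg (fun m : pullback a w ⟶ V => m c) pullback.condition
      rw [h1, (show a'' c = a'' z from hc), ← hu₀, ← Scheme.Hom.comp_apply, hp]
    obtain ⟨W, hW, hzW, -⟩ := exists_isAffineOpen_mem_and_subset (X := V'') (x := a'' z) (U := ⊤) trivial
    haveI : IsAffine (W : Scheme.{u}) := hW
    haveI : IsSeparated (W.ι ≫ w) := inferInstance
    let PW : (pullback a w).Opens := ⟨a'' ⁻¹' (W : Set V'') ∩ (pullback.fst a w ≫ p) ⁻¹' (W : Set V''),
      (W.2.preimage a''.continuous).inter (W.2.preimage (pullback.fst a w ≫ p).continuous)⟩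
    let α : (PW : Scheme.{u}) ⟶ W := IsOpenImmersion.lift W.ι (PW.ι ≫ a'') (by
      rw [Scheme.Opens.range_ι]; rintro _ ⟨c, rfl⟩; exact c.2.1)
    let β : (PW : Scheme.{u}) ⟶ W := IsOpenImmersion.lift W.ι (PW.ι ≫ pullback.fst a w ≫ p) (by
      rw [Scheme.Opens.range_ι]; rintro _ ⟨c, rfl⟩; exact c.2.2)
    have hα : α ≫ W.ι = PW.ι ≫ a'' := IsOpenImmersion.lift_fac _ _ _
    have hβ : β ≫ W.ι = PW.ι ≫ pullback.fst a w ≫ p := IsOpenImmersion.lift_fac _ _ _
    let d : (PW : Scheme.{u}) ⟶ pullback (W.ι ≫ w) (W.ι ≫ w) := pullback.lift α β (by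
      rw [reassoc_of% hα, reassoc_of% hβ, hp]
      exact congrArg (PW.ι ≫ ·) pullback.condition.symm)
    let Δ := pullback.diagonal (W.ι ≫ w)
    let K := pullback.fst d Δ
    have hK : PW.ι '' Set.range K = Set.range γ ∩ (PW : Set ↥(pullback a w)) := by
      ext c
      constructor
      · rintro ⟨_, ⟨k, rfl⟩, rfl⟩
        refine ⟨?_, (K k).2⟩
        have e1 : K ≫ α = K ≫ β := by
          have hc := pullback.condition (f := d) (g := Δ)
          have h1 := congrArg (· ≫ pullback.fst (W.ι ≫ w) (W.ι ≫ w)) hc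
          have h2 := congrArg (· ≫ pullback.snd (W.ι ≫ w) (W.ι ≫ w)) hc
          simp only [Category.assoc, d, Δ, pullback.lift_fst, pullback.lift_snd, pullback.diagonal_fst,
            pullback.diagonal_snd, Category.comp_id] at h1 h2
          exact h1.trans h2.symm
        have e2 : K ≫ PW.ι = (K ≫ PW.ι ≫ pullback.fst a w) ≫ γ := by
          refine pullback.hom_ext ?_ ?_
          · simp only [γ, Category.assoc, pullback.lift_fst, Category.comp_id]
          · simp only [γ, Category.assoc, pullback.lift_snd]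
            rw [← hα, ← hβ, reassoc_of% e1]
        exact ⟨_, ((Scheme.Hom.comp_apply _ _ _).symm.trans (congrArg (fun m : pullback d Δ ⟶ pullback a w => m k) e2.symm)).trans
          (Scheme.Hom.comp_apply _ _ _)⟩
      · rintro ⟨⟨u, rfl⟩, hu⟩
        let UW : U.Opens := ⟨γ ⁻¹' (PW : Set ↥(pullback a w)), PW.2.preimage γ.continuous⟩
        let κ : (UW : Scheme.{u}) ⟶ PW := IsOpenImmersion.lift PW.ι (UW.ι ≫ γ) (by
          rw [Scheme.Opens.range_ι]; rintro _ ⟨c, rfl⟩; exact c.2)
        have hκ : κ ≫ PW.ι = UW.ι ≫ γ := IsOpenImmersion.lift_fac _ _ _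
        have e : κ ≫ α = κ ≫ β := by
          rw [← cancel_mono W.ι, Category.assoc, Category.assoc, hα, hβ, reassoc_of% hκ, reassoc_of% hκ]
          simp only [γ, a'', pullback.lift_snd, pullback.lift_fst_assoc, Category.id_comp]
        let l : (UW : Scheme.{u}) ⟶ pullback d Δ := pullback.lift κ (κ ≫ α) (by
          refine pullback.hom_ext ?_ ?_
          · simp only [d, Δ, Category.assoc, pullback.lift_fst, pullback.diagonal_fst, Category.comp_id]
          · simp only [d, Δ, Category.assoc, pullback.lift_snd, pullback.diagonal_snd, Category.comp_id]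
            exact e.symm)
        refine ⟨κ ⟨u, hu⟩, ⟨l ⟨u, hu⟩, ?_⟩, ?_⟩
        · rw [← Scheme.Hom.comp_apply, show l ≫ K = κ from pullback.lift_fst _ _ _]
        · rw [← Scheme.Hom.comp_apply, hκ, Scheme.Hom.comp_apply]; rfl
    have hclosed : IsClosed (Set.range K) := by
      haveI : IsClosedImmersion Δ := inferInstance
      haveI : IsClosedImmersion K := MorphismProperty.pullback_fst (P := @IsClosedImmersion) _ _ ‹_›
      exact K.isClosedEmbedding.isClosed_range
    haveI : GeometricallyConnected a'' := MorphismProperty.pullback_snd (P := @GeometricallyConnected) _ _ ‹_›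
    have hC : _root_.IsPreconnected (a'' ⁻¹' {a'' z}) := (a''.isConnected_preimage_singleton _).isPreconnected
    by_contra hzR
    have hmemPW : ∀ c ∈ a'' ⁻¹' {a'' z}, c ∈ PW := fun c hc => by
      refine ⟨?_, ?_⟩
      · rw [Set.mem_preimage, (show a'' c = a'' z from hc)]; exact hzW
      · rw [Set.mem_preimage, Scheme.Hom.comp_apply, hpz c hc]; exact hzW
    obtain ⟨c, hcC, hcR, hcO⟩ := hC (Set.range γ) (PW.ι '' (Set.range K)ᶜ) hopen
      (PW.ι.isOpenEmbedding.isOpenMap _ hclosed.isOpen_compl)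
      (fun c hc => by
        by_cases h : c ∈ Set.range γ
        · exact Or.inl h
        · exact Or.inr ⟨⟨c, hmemPW c hc⟩, fun hk => h (hK.le ⟨_, hk, rfl⟩).1, rfl⟩)
      ⟨γ u₀, by
        show a'' (γ u₀) = a'' z
        rw [← Scheme.Hom.comp_apply, show γ ≫ a'' = p from pullback.lift_snd _ _ _]
        exact hu₀, ⟨u₀, rfl⟩⟩
      ⟨z, rfl, ⟨⟨z, hmemPW z rfl⟩, fun hk => hzR (hK.le ⟨_, hk, rfl⟩).1, rfl⟩⟩
    obtain ⟨c', hc', rfl⟩ := hcO
    obtain ⟨c'', hc'', he⟩ := hK.ge ⟨hcR, c'.2⟩
    exact hc' (PW.ι.isOpenEmbedding.injective he ▸ hc'')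
  haveI : Surjective a'' := MorphismProperty.pullback_snd (P := @Surjective) _ _ inferInstance
  rw [← (Flat.isQuotientMap_of_surjective a'').isOpen_preimage]
  have : a'' ⁻¹' Set.range p = Set.range γ := by
    refine Set.Subset.antisymm hsat ?_
    rintro _ ⟨u, rfl⟩
    refine ⟨u, ?_⟩
    show p u = a'' (γ u)
    rw [← Scheme.Hom.comp_apply, show γ ≫ a'' = p from pullback.lift_snd _ _ _]
  rw [this]
  exact hopen

variable {X S Y T : Scheme.{u}} (f : X ⟶ S) (g : T ⟶ S) (h : Y ⟶ X) (e : Y ⟶ T) (c : IsPullback e h g f)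
  (F : EtDesc.Sh T)

/-- The comparison map of a chart. -/
def chartMap {N : X.Etale} {V : S.Etale} (β : N ⟶ (EtCoh.bc f).obj V) :
    (EtCoh.bc h).obj N ⟶ (EtCoh.bc e).obj ((EtCoh.bc g).obj V) :=
  (EtCoh.bc h).map β ≫ kappa g f h e c V

/-- The base change map on a chart. -/
theorem baseChange_chart {N : X.Etale} {V : S.Etale} (β : N ⟶ (EtCoh.bc f).obj V)
    (x : EtDesc.sect F ((EtCoh.bc g).obj V)) :
    (EtBC.baseChange0Sh g f h e c.w F).hom.app (op N)
        (((EtDesc.pullSh f).obj ((EtDesc.pushSh g).obj F)).obj.map β.op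
          (unitShSec f ((EtDesc.pushSh g).obj F) V x)) =
      ((EtDesc.pullSh e).obj F).obj.map (chartMap f g h e c β).op (unitShSec e F ((EtCoh.bc g).obj V) x) := by
  have hb := isBC_sh g f h e c F V
  rw [Adjunction.homEquiv_unit] at hb
  refine (NatTrans.naturality_apply (EtBC.baseChange0Sh g f h e c.w F).hom β.op _).trans ?_
  refine (congrArg (((EtDesc.pullSh e).obj F).obj.map ((EtCoh.bc h).map β).op)
    (ConcreteCategory.congr_hom hb x)).trans ?_
  exact (Functor.map_comp_apply ((EtDesc.pullSh e).obj F).obj (kappa g f h e c V).op ((EtCoh.bc h).map β).op _).symm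

/-- The chart map is a base change of the chart. -/
theorem isPullback_chartMap {N : X.Etale} {V : S.Etale} (β : N ⟶ (EtCoh.bc f).obj V) :
    IsPullback (bcFst h N) ((chartMap f g h e c β).left ≫ bcFst e ((EtCoh.bc g).obj V)) (β.left ≫ bcFst f V)
      (bcFst g V) := by
  have hw : ((chartMap f g h e c β).left ≫ bcFst e ((EtCoh.bc g).obj V)) ≫ ((EtCoh.bc g).obj V).hom =
      ((EtCoh.bc h).obj N).hom ≫ e := by
    have h1 : bcFst e ((EtCoh.bc g).obj V) ≫ ((EtCoh.bc g).obj V).hom =
        ((EtCoh.bc e).obj ((EtCoh.bc g).obj V)).hom ≫ e := pullback.condition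
    rw [Category.assoc, h1, ← Category.assoc]
    exact congrArg (· ≫ e) (MorphismProperty.Over.w (chartMap f g h e c β))
  have hβ : (β.left ≫ bcFst f V) ≫ V.hom = N.hom ≫ f := by
    rw [Category.assoc, bcFst, pullback.condition, ← Category.assoc]
    exact congrArg (· ≫ f) (MorphismProperty.Over.w β)
  refine IsPullback.of_bot ?_ ?_ (IsPullback.of_hasPullback V.hom g)
  · show IsPullback _ (((chartMap f g h e c β).left ≫ bcFst e ((EtCoh.bc g).obj V)) ≫ ((EtCoh.bc g).obj V).hom) _ _
    rw [hw, hβ]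
    exact (IsPullback.of_hasPullback N.hom h).paste_vert c.flip
  · show _ = (((EtCoh.bc h).map β).left ≫ (kappa g f h e c V).left) ≫ bcFst e _ ≫ bcFst g V
    rw [Category.assoc, kappa_fst, ← Category.assoc ((EtCoh.bc h).map β).left, bcFst_map, Category.assoc]

variable [Flat f]
  (hcov : ∀ U : X.Etale, ∃ (ι : Type u) (Uc : ι → X.Etale) (mU : ∀ i, Uc i ⟶ U),
    (∀ y : U.left, ∃ (i : ι) (z : (Uc i).left), (mU i).left.base z = y) ∧
    ∀ i, ∃ (V : S.Etale) (a : (Uc i).left ⟶ V.left),
      a ≫ V.hom = (Uc i).hom ≫ f ∧ QuasiCompact a ∧ GeometricallyConnected a)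

include hcov in
theorem injective_baseChange (W : X.Etale) :
    Function.Injective ((EtBC.baseChange0Sh g f h e c.w F).hom.app (op W)) := by
  intro s s' hss
  let α := EtBC.baseChange0Sh g f h e c.w F
  let F' := (EtDesc.pushSh g).obj F
  let G₁ := (EtDesc.pullSh f).obj F'
  refine eq_of_agree_sh G₁ fun w => ?_
  obtain ⟨N, q, n, V, β, x, x', hqn, E₁, E₂⟩ := exists_common_form f F' s s' w
  obtain ⟨ι, Uc, mU, hsurj, hfac⟩ := hcov N
  obtain ⟨i, z, hz⟩ := hsurj n
  obtain ⟨Va, a, haV, hqc, hgc⟩ := hfac i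
  haveI := hqc
  haveI := hgc
  haveI : Etale (Uc i).hom := (Uc i).prop
  haveI : Etale Va.hom := Va.prop
  haveI : Flat a := flat_of_comp_etale a Va.hom ((Uc i).hom ≫ f) haV
  let r := mU i
  let β' : Uc i ⟶ (EtCoh.bc f).obj V := r ≫ β
  have hβ' : (β'.left ≫ bcFst f V) ≫ V.hom = (Uc i).hom ≫ f := by
    rw [Category.assoc, bcFst, pullback.condition, ← Category.assoc]
    exact congrArg (· ≫ f) (MorphismProperty.Over.w β')
  let V₁ := HensH0.prod2 Va V
  let p : (Uc i).left ⟶ V₁.left := pullback.lift a (β'.left ≫ bcFst f V) (haV.trans hβ'.symm)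
  haveI : Etale V.hom := V.prop
  haveI : Etale (pullback.fst Va.hom V.hom) := MorphismProperty.pullback_fst _ _ ‹_›
  have hO : IsOpen (Set.range p) := isOpen_range_lift a (pullback.fst Va.hom V.hom) p (pullback.lift_fst _ _ _)
  let O : V₁.left.Opens := ⟨Set.range p, hO⟩
  let V₂ := openSub V₁ O
  let j : V₂ ⟶ V := openIncl V₁ O ≫ HensH0.snd2 Va V
  let p₂ : (Uc i).left ⟶ (O : Scheme.{u}) := IsOpenImmersion.lift O.ι p (by rw [Scheme.Opens.range_ι]; rfl)
  have hp₂ : p₂ ≫ O.ι = p := IsOpenImmersion.lift_fac _ _ _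
  haveI : Surjective p₂ := ⟨fun o => by
    obtain ⟨u, hu⟩ := o.2
    refine ⟨u, O.ι.isOpenEmbedding.injective ?_⟩
    rw [← Scheme.Hom.comp_apply, hp₂]
    exact hu⟩
  have hp₂V : p₂ ≫ V₂.hom = (Uc i).hom ≫ f := by
    show p₂ ≫ O.ι ≫ pullback.fst Va.hom V.hom ≫ Va.hom = _
    rw [reassoc_of% hp₂, pullback.lift_fst_assoc, haV]
  let β₂ : Uc i ⟶ (EtCoh.bc f).obj V₂ :=
    MorphismProperty.Over.homMk (pullback.lift p₂ (Uc i).hom hp₂V) (pullback.lift_snd _ _ _)
  have hβ₂ : β₂ ≫ (EtCoh.bc f).map j = β' := by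
    refine EtLimLib.bc_ext f ?_
    show (β₂.left ≫ ((EtCoh.bc f).map _).left) ≫ _ = _
    rw [Category.assoc, EtLimLib.bc_map_fst, ← Category.assoc,
      show β₂.left ≫ pullback.fst V₂.hom f = p₂ from pullback.lift_fst _ _ _]
    show p₂ ≫ O.ι ≫ pullback.snd Va.hom V.hom = _
    rw [reassoc_of% hp₂]
    exact pullback.lift_snd _ _ _
  have key : ∀ (y : EtDesc.sect F' V), G₁.obj.map r.op (G₁.obj.map β.op (unitShSec f F' V y)) =
      G₁.obj.map β₂.op (unitShSec f F' V₂ (F'.obj.map j.op y)) := fun y => by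
    refine (Functor.map_comp_apply G₁.obj β.op r.op _).symm.trans ?_
    refine (congrArg (fun m => G₁.obj.map m.op (unitShSec f F' V y)) hβ₂.symm).trans ?_
    refine (Functor.map_comp_apply G₁.obj ((EtCoh.bc f).map j).op β₂.op _).trans ?_
    exact congrArg (G₁.obj.map β₂.op) (unitShSec_map f F' j y)
  haveI : Surjective (β₂.left ≫ bcFst f V₂) := by
    rw [show β₂.left ≫ bcFst f V₂ = p₂ from pullback.lift_fst _ _ _]
    infer_instance
  haveI : Surjective ((chartMap f g h e c β₂).left ≫ bcFst e ((EtCoh.bc g).obj V₂)) :=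
    MorphismProperty.of_isPullback (P := @Surjective) (isPullback_chartMap f g h e c β₂) ‹_›
  have hx : F'.obj.map j.op x = F'.obj.map j.op x' := by
    refine eq_of_pulled e F (chartMap f g h e c β₂) _ _ ?_
    refine (baseChange_chart f g h e c F β₂ _).symm.trans (Eq.trans ?_ (baseChange_chart f g h e c F β₂ _))
    refine congrArg (α.hom.app (op (Uc i))) (key x).symm |>.trans (Eq.trans ?_ (congrArg (α.hom.app (op (Uc i))) (key x')))
    rw [← E₁, ← E₂]
    refine (congrArg (α.hom.app (op (Uc i))) (Functor.map_comp_apply G₁.obj q.op r.op s).symm).trans ?_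
    refine Eq.trans ?_ (congrArg (α.hom.app (op (Uc i))) (Functor.map_comp_apply G₁.obj q.op r.op s'))
    refine (NatTrans.naturality_apply α.hom (q.op ≫ r.op) s).trans ?_
    refine Eq.trans ?_ (NatTrans.naturality_apply α.hom (q.op ≫ r.op) s').symm
    exact congrArg _ hss
  have h2 : G₁.obj.map r.op (G₁.obj.map q.op s) = G₁.obj.map r.op (G₁.obj.map q.op s') := by
    rw [E₁, E₂, key, key, hx]
  refine Set.mem_iUnion.2 ⟨Uc i, Set.mem_iUnion.2 ⟨r ≫ q, Set.mem_iUnion.2 ⟨?_, z, ?_⟩⟩⟩
  · exact (Functor.map_comp_apply G₁.obj q.op r.op s).trans (h2.trans (Functor.map_comp_apply G₁.obj q.op r.op s').symm)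
  · exact (Scheme.Hom.comp_apply _ _ _).trans ((congrArg q.left hz).trans hqn)

include hcov in
theorem surjective_baseChange (W : X.Etale) :
    Function.Surjective ((EtBC.baseChange0Sh g f h e c.w F).hom.app (op W)) := by
  intro σ
  let α := EtBC.baseChange0Sh g f h e c.w F
  let F' := (EtDesc.pushSh g).obj F
  let G₁ := (EtDesc.pullSh f).obj F'
  let G₂ := (EtDesc.pullSh e).obj F
  let Q : ∀ (N : X.Etale), (N ⟶ W) → EtDesc.sect G₁ N → Prop := fun N q τ =>
    α.hom.app (op N) τ = G₂.obj.map ((EtCoh.bc h).map q).op σ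
  have hQ : ∀ {N M : X.Etale} (q : N ⟶ W) (r : M ⟶ N) (τ : EtDesc.sect G₁ N), Q N q τ →
      Q M (r ≫ q) (G₁.obj.map r.op τ) := fun {N M} q r τ hτ => by
    refine (NatTrans.naturality_apply α.hom r.op τ).trans ?_
    refine (congrArg (G₂.obj.map ((EtCoh.bc h).map r).op) hτ).trans ?_
    refine (Functor.map_comp_apply G₂.obj ((EtCoh.bc h).map q).op ((EtCoh.bc h).map r).op σ).symm.trans ?_
    exact congrArg (fun m => G₂.obj.map m.op σ) (((EtCoh.bc h).map_comp r q).symm)
  have huniq : ∀ {N : X.Etale} (q : N ⟶ W) (τ τ' : EtDesc.sect G₁ N), Q N q τ → Q N q τ' → τ = τ' :=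
    fun {N} q τ τ' h₁ h₂ => injective_baseChange f g h e c F hcov N (h₁.trans h₂.symm)
  have hex : ∀ w : W.left, ∃ (N : X.Etale) (q : N ⟶ W) (n : N.left) (τ : EtDesc.sect G₁ N),
      q.left n = w ∧ Q N q τ := by
    intro w
    obtain ⟨ι, Uc, mU, hsurj, hfac⟩ := hcov W
    obtain ⟨i, z, hz⟩ := hsurj w
    obtain ⟨Va, a, haV, hqc, hgc⟩ := hfac i
    haveI := hqc
    haveI := hgc
    haveI : Etale (Uc i).hom := (Uc i).prop
    haveI : Etale Va.hom := Va.prop
    haveI : Flat a := flat_of_comp_etale a Va.hom ((Uc i).hom ≫ f) haV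
    let β : Uc i ⟶ (EtCoh.bc f).obj Va :=
      MorphismProperty.Over.homMk (pullback.lift a (Uc i).hom haV) (pullback.lift_snd _ _ _)
    have hpb := isPullback_chartMap f g h e c β
    rw [show β.left ≫ bcFst f Va = a from pullback.lift_fst _ _ _] at hpb
    haveI : Flat ((chartMap f g h e c β).left ≫ bcFst e ((EtCoh.bc g).obj Va)) :=
      MorphismProperty.of_isPullback (P := @Flat) hpb ‹_›
    haveI : QuasiCompact ((chartMap f g h e c β).left ≫ bcFst e ((EtCoh.bc g).obj Va)) :=
      MorphismProperty.of_isPullback (P := @QuasiCompact) hpb ‹_›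
    haveI : GeometricallyConnected ((chartMap f g h e c β).left ≫ bcFst e ((EtCoh.bc g).obj Va)) :=
      MorphismProperty.of_isPullback (P := @GeometricallyConnected) hpb ‹_›
    obtain ⟨x, hx⟩ := exists_pulled e F (chartMap f g h e c β) (G₂.obj.map ((EtCoh.bc h).map (mU i)).op σ)
    exact ⟨Uc i, mU i, z, G₁.obj.map β.op (unitShSec f F' Va x), hz,
      (baseChange_chart f g h e c F β x).trans hx⟩
  obtain ⟨x, hx⟩ := exists_glue_local G₁ Q hQ huniq hex
  refine ⟨x, eq_of_agree_sh G₂ fun y => ?_⟩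
  obtain ⟨N, q, n, τ, hn, hτ⟩ := hex (bcFst h W y)
  obtain ⟨z, hz1, -⟩ := Scheme.Pullback.exists_preimage_pullback (f := bcFst h W) (g := q.left) y n hn.symm
  refine Set.mem_iUnion.2 ⟨(EtCoh.bc h).obj N, Set.mem_iUnion.2 ⟨(EtCoh.bc h).map q, Set.mem_iUnion.2
    ⟨?_, (EtCoh.isPullback_bc_map h q).isoPullback.inv z, ?_⟩⟩⟩
  · refine (NatTrans.naturality_apply α.hom q.op x).symm.trans ?_
    exact (congrArg (α.hom.app (op N)) (hx N q τ hτ)).trans hτ
  · refine Eq.trans ?_ hz1
    exact (Scheme.Hom.comp_apply _ _ _).symm.trans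
      (EtLimLib.hom_congr_apply (EtCoh.isPullback_bc_map h q).isoPullback_inv_fst z)

include hcov in
/-- Base change holds along flat morphisms with geometrically connected factorizations. -/
theorem isIso_baseChange : IsIso (EtBC.baseChange0Sh g f h e c.w F) := by
  haveI : ∀ W, IsIso ((EtBC.baseChange0Sh g f h e c.w F).hom.app W) := fun W =>
    (ConcreteCategory.isIso_iff_bijective _).2
      ⟨injective_baseChange f g h e c F hcov W.unop, surjective_baseChange f g h e c F hcov W.unop⟩
  haveI : IsIso (EtBC.baseChange0Sh g f h e c.w F).hom := NatIso.isIso_of_isIso_app _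
  haveI : IsIso ((sheafToPresheaf _ _).map (EtBC.baseChange0Sh g f h e c.w F)) :=
    ‹IsIso (EtBC.baseChange0Sh g f h e c.w F).hom›
  exact isIso_of_fully_faithful (sheafToPresheaf _ _) (EtBC.baseChange0Sh g f h e c.w F)

end Groth.Agent.DenseUnitLib
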