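import Groth.Agent.DenseUnitLib.SetsAgree
import Groth.Agent.GeomConnPull.Field

/-!
# Descent of sections along flat quasi-compact maps with geometrically connected fibres
-/

set_option autoImplicit false
set_option linter.unusedSectionVars false
set_option linter.style.haveILetI false
set_option backward.isDefEq.respectTransparency false
set_option backward.isDefEq.respectTransparency.types false
set_option maxHeartbeats 1000000

universe u

open CategoryTheory CategoryTheory.Limits AlgebraicGeometry Opposite Topology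
open Groth.Agent.EtPtsLib

noncomputable section

namespace Groth.Agent.DenseUnitLib

variable {Y T : Scheme.{u}} (e : Y ⟶ T) (F : EtDesc.Sh T) {M : T.Etale} {P : Y.Etale}
  (k : P ⟶ (EtCoh.bc e).obj M)

/-- Pulled back sections are separated by surjections. -/
theorem eq_of_pulled [hs : Surjective (k.left ≫ bcFst e M)] (x x' : EtDesc.sect F M)
    (h : ((EtDesc.pullSh e).obj F).obj.map k.op (unitShSec e F M x) =
      ((EtDesc.pullSh e).obj F).obj.map k.op (unitShSec e F M x')) : x = x' := by
  let G := (EtDesc.pullSh e).obj F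
  refine eq_of_agree_sh F fun v => ?_
  obtain ⟨y, hy⟩ := hs.surj v
  have h1 : y ∈ agree G.obj (G.obj.map k.op (unitShSec e F M x)) (G.obj.map k.op (unitShSec e F M x')) := by
    rw [h]
    exact agree_self_sh G _ y
  have h2 := (mem_agree_unitSh_iff e F M x x' _).1 ((mem_agree_map_iff_sh G k _ _ y).1 h1)
  exact hy ▸ h2

/-- The base change of `P` along an etale map to `M`. -/
def pbObj {M' : T.Etale} (q : M' ⟶ M) : Y.Etale :=
  haveI := etale_left q
  haveI : Etale P.hom := P.prop
  haveI : Etale (pullback.fst (k.left ≫ bcFst e M) q.left) := MorphismProperty.pullback_fst _ _ ‹_›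
  Scheme.Etale.mk (pullback.fst (k.left ≫ bcFst e M) q.left ≫ P.hom)

/-- The first projection. -/
def pbFst {M' : T.Etale} (q : M' ⟶ M) : pbObj e k q ⟶ P :=
  MorphismProperty.Over.homMk (pullback.fst (k.left ≫ bcFst e M) q.left) rfl

theorem pb_comm {M' : T.Etale} (q : M' ⟶ M) :
    pullback.snd (k.left ≫ bcFst e M) q.left ≫ M'.hom = (pbObj e k q).hom ≫ e := by
  have h1 : (k.left ≫ bcFst e M) ≫ M.hom = P.hom ≫ e := by
    rw [Category.assoc, bcFst, pullback.condition, ← Category.assoc]
    exact congrArg (· ≫ e) (MorphismProperty.Over.w k)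
  show _ = (pullback.fst (k.left ≫ bcFst e M) q.left ≫ P.hom) ≫ e
  rw [← MorphismProperty.Over.w q, ← Category.assoc, ← pullback.condition, Category.assoc, h1, Category.assoc]

/-- The map to the base change of the new object. -/
def pbMap {M' : T.Etale} (q : M' ⟶ M) : pbObj e k q ⟶ (EtCoh.bc e).obj M' :=
  MorphismProperty.Over.homMk (pullback.lift (pullback.snd (k.left ≫ bcFst e M) q.left) (pbObj e k q).hom
    (pb_comm e k q)) (pullback.lift_snd _ _ _)

theorem pbMap_fst {M' : T.Etale} (q : M' ⟶ M) :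
    (pbMap e k q).left ≫ bcFst e M' = pullback.snd (k.left ≫ bcFst e M) q.left := pullback.lift_fst _ _ _

theorem pbFst_comp {M' : T.Etale} (q : M' ⟶ M) :
    pbFst e k q ≫ k = pbMap e k q ≫ (EtCoh.bc e).map q := by
  refine EtLimLib.bc_ext e ?_
  show (pullback.fst (k.left ≫ bcFst e M) q.left ≫ k.left) ≫ _ = ((pbMap e k q).left ≫ ((EtCoh.bc e).map q).left) ≫ _
  rw [Category.assoc, Category.assoc, EtLimLib.bc_map_fst, ← Category.assoc (pbMap e k q).left,
    show (pbMap e k q).left ≫ pullback.fst M'.hom e = _ from pbMap_fst e k q]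
  exact pullback.condition

/-- Functoriality in the etale map. -/
def pbRestr {M' M'' : T.Etale} (q : M' ⟶ M) (r : M'' ⟶ M') : pbObj e k (r ≫ q) ⟶ pbObj e k q :=
  MorphismProperty.Over.homMk
    (pullback.lift (pullback.fst (k.left ≫ bcFst e M) (r ≫ q).left)
      (pullback.snd (k.left ≫ bcFst e M) (r ≫ q).left ≫ r.left) (pullback.condition.trans (Category.assoc _ _ _).symm))
    (by
      show pullback.lift _ _ _ ≫ pullback.fst (k.left ≫ bcFst e M) q.left ≫ P.hom = _
      rw [pullback.lift_fst_assoc]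
      rfl)

theorem pbRestr_fst {M' M'' : T.Etale} (q : M' ⟶ M) (r : M'' ⟶ M') :
    pbRestr e k q r ≫ pbFst e k q = pbFst e k (r ≫ q) :=
  MorphismProperty.Over.Hom.ext (pullback.lift_fst _ _ _)

theorem pbRestr_map {M' M'' : T.Etale} (q : M' ⟶ M) (r : M'' ⟶ M') :
    pbRestr e k q r ≫ pbMap e k q = pbMap e k (r ≫ q) ≫ (EtCoh.bc e).map r := by
  refine EtLimLib.bc_ext e ?_
  show ((pbRestr e k q r).left ≫ (pbMap e k q).left) ≫ _ = ((pbMap e k (r ≫ q)).left ≫ ((EtCoh.bc e).map r).left) ≫ _
  rw [Category.assoc, Category.assoc, EtLimLib.bc_map_fst, ← Category.assoc (pbMap e k (r ≫ q)).left,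
    show (pbMap e k q).left ≫ pullback.fst M'.hom e = _ from pbMap_fst e k q,
    show (pbMap e k (r ≫ q)).left ≫ pullback.fst M''.hom e = _ from pbMap_fst e k (r ≫ q)]
  exact pullback.lift_snd _ _ _

/-- Every section over `P` comes from `M` when `P → M` is flat, quasi-compact, with geometrically connected
fibres. -/
theorem exists_pulled [Flat (k.left ≫ bcFst e M)] [QuasiCompact (k.left ≫ bcFst e M)]
    [GeometricallyConnected (k.left ≫ bcFst e M)] (σ : EtDesc.sect ((EtDesc.pullSh e).obj F) P) :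
    ∃ x : EtDesc.sect F M, ((EtDesc.pullSh e).obj F).obj.map k.op (unitShSec e F M x) = σ := by
  let G := (EtDesc.pullSh e).obj F
  let Q : ∀ (N : T.Etale), (N ⟶ M) → EtDesc.sect F N → Prop := fun N q t =>
    G.obj.map (pbMap e k q).op (unitShSec e F N t) = G.obj.map (pbFst e k q).op σ
  have hQ : ∀ {N N' : T.Etale} (q : N ⟶ M) (r : N' ⟶ N) (t : EtDesc.sect F N), Q N q t →
      Q N' (r ≫ q) (F.obj.map r.op t) := fun {N N'} q r t ht => by
    refine (congrArg (G.obj.map (pbMap e k (r ≫ q)).op) (unitShSec_map e F r t).symm).trans ?_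
    refine (Functor.map_comp_apply G.obj ((EtCoh.bc e).map r).op (pbMap e k (r ≫ q)).op _).symm.trans ?_
    refine (congrArg (fun m => G.obj.map m.op (unitShSec e F N t)) (pbRestr_map e k q r).symm).trans ?_
    refine (Functor.map_comp_apply G.obj (pbMap e k q).op (pbRestr e k q r).op _).trans ?_
    refine (congrArg (G.obj.map (pbRestr e k q r).op) ht).trans ?_
    refine (Functor.map_comp_apply G.obj (pbFst e k q).op (pbRestr e k q r).op _).symm.trans ?_
    exact congrArg (fun m => G.obj.map m.op σ) (pbRestr_fst e k q r)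
  have huniq : ∀ {N : T.Etale} (q : N ⟶ M) (t t' : EtDesc.sect F N), Q N q t → Q N q t' → t = t' := by
    intro N q t t' ht ht'
    haveI : Surjective ((pbMap e k q).left ≫ bcFst e N) := by
      rw [pbMap_fst]
      infer_instance
    exact eq_of_pulled e F (pbMap e k q) t t' (ht.trans ht'.symm)
  have hex : ∀ v : M.left, ∃ (N : T.Etale) (q : N ⟶ M) (n : N.left) (t : EtDesc.sect F N), q.left n = v ∧ Q N q t := by
    intro v
    obtain ⟨y, hy⟩ := (k.left ≫ bcFst e M).surjective v
    obtain ⟨N, g, n, V', b, t, hgn, eσ⟩ := exists_local_form_sh e F σ y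
    let M₀ := HensH0.prod2 M V'
    let q₀ : M₀ ⟶ M := HensH0.fst2 M V'
    let P₀ := pbObj e k q₀
    let t₀ : EtDesc.sect F M₀ := F.obj.map (HensH0.snd2 M V').op t
    let A₁ := G.obj.map (pbMap e k q₀).op (unitShSec e F M₀ t₀)
    let A₂ := G.obj.map (pbFst e k q₀).op σ
    have hv' : (b.left ≫ bcFst e V') ≫ V'.hom = N.hom ≫ e := by
      rw [Category.assoc, bcFst, pullback.condition, ← Category.assoc]
      exact congrArg (· ≫ e) (MorphismProperty.Over.w b)
    have hm' : (k.left ≫ bcFst e M) ≫ M.hom = P.hom ≫ e := by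
      rw [Category.assoc, bcFst, pullback.condition, ← Category.assoc]
      exact congrArg (· ≫ e) (MorphismProperty.Over.w k)
    let pr : N.left ⟶ M₀.left := pullback.lift (g.left ≫ k.left ≫ bcFst e M) (b.left ≫ bcFst e V') (by
      rw [hv', Category.assoc, hm', ← Category.assoc]
      exact congrArg (· ≫ e) (MorphismProperty.Over.w g))
    let γ : N ⟶ P₀ := MorphismProperty.Over.homMk (pullback.lift g.left pr (pullback.lift_fst _ _ _).symm) (by
      show pullback.lift _ _ _ ≫ pullback.fst (k.left ≫ bcFst e M) q₀.left ≫ P.hom = _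
      rw [pullback.lift_fst_assoc]
      exact MorphismProperty.Over.w g)
    have hγ₁ : γ ≫ pbFst e k q₀ = g := MorphismProperty.Over.Hom.ext (pullback.lift_fst _ _ _)
    have hγ₂ : γ ≫ pbMap e k q₀ ≫ (EtCoh.bc e).map (HensH0.snd2 M V') = b := by
      refine EtLimLib.bc_ext e ?_
      show (γ.left ≫ (pbMap e k q₀).left ≫ ((EtCoh.bc e).map _).left) ≫ _ = _
      rw [Category.assoc, Category.assoc, EtLimLib.bc_map_fst, ← Category.assoc (pbMap e k q₀).left,
        show (pbMap e k q₀).left ≫ pullback.fst M₀.hom e = _ from pbMap_fst e k q₀, ← Category.assoc,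
        show γ.left ≫ pullback.snd (k.left ≫ bcFst e M) q₀.left = pr from pullback.lift_snd _ _ _]
      exact pullback.lift_snd _ _ _
    have hA : γ.left n ∈ agree G.obj A₁ A₂ := by
      refine (mem_agree_map_iff_sh G γ A₁ A₂ n).1 ?_
      have e1 : G.obj.map γ.op A₁ = G.obj.map g.op σ := by
        refine Eq.trans ?_ eσ.symm
        refine (congrArg (fun z => G.obj.map γ.op (G.obj.map (pbMap e k q₀).op z))
          (unitShSec_map e F (HensH0.snd2 M V') t).symm).trans ?_
        refine (congrArg (G.obj.map γ.op) (Functor.map_comp_apply G.obj ((EtCoh.bc e).map (HensH0.snd2 M V')).op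
          (pbMap e k q₀).op _).symm).trans ?_
        refine (Functor.map_comp_apply G.obj _ γ.op _).symm.trans ?_
        exact congrArg (fun m => G.obj.map m.op (unitShSec e F V' t)) hγ₂
      have e2 : G.obj.map γ.op A₂ = G.obj.map g.op σ :=
        (Functor.map_comp_apply G.obj (pbFst e k q₀).op γ.op σ).symm.trans
          (congrArg (fun m => G.obj.map m.op σ) hγ₁)
      rw [e1, e2]
      exact agree_self_sh G _ n
    let m₀ := pullback.snd (k.left ≫ bcFst e M) q₀.left
    haveI : Flat m₀ := MorphismProperty.pullback_snd (P := @Flat) _ _ ‹_›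
    haveI : QuasiCompact m₀ := MorphismProperty.pullback_snd (P := @QuasiCompact) _ _ ‹_›
    have hsat : ∀ a b : P₀.left, m₀ a = m₀ b → a ∈ agree G.obj A₁ A₂ → b ∈ agree G.obj A₁ A₂ := by
      intro a b hab ha
      refine subset_agree_sh e F A₁ A₂ (C := m₀ ⁻¹' {m₀ a}) (m₀.isConnected_preimage_singleton _).isPreconnected
        (x := M₀.hom (m₀ a)) ?_ ⟨a, rfl, ha⟩ hab.symm
      intro c hc
      rw [← (show m₀ c = m₀ a from hc)]
      exact (congrArg (fun m : P₀.left ⟶ T => m c) (pb_comm e k q₀)).symm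
    have hq : IsQuotientMap m₀ := Flat.isQuotientMap_of_surjective m₀
    let O : M₀.left.Opens := ⟨m₀ '' agree G.obj A₁ A₂, hq.isOpen_preimage.1 (by
      have : m₀ ⁻¹' (m₀ '' agree G.obj A₁ A₂) = agree G.obj A₁ A₂ :=
        Set.Subset.antisymm (fun b ⟨a, ha, hab⟩ => hsat a b hab ha) (Set.subset_preimage_image _ _)
      rw [this]
      exact isOpen_agree _ _ _)⟩
    refine ⟨openSub M₀ O, openIncl M₀ O ≫ q₀, ⟨m₀ (γ.left n), ⟨γ.left n, hA, rfl⟩⟩,
      F.obj.map (openIncl M₀ O).op t₀, ?_, ?_⟩
    · show q₀.left (m₀ (γ.left n)) = v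
      have hh := congrArg (fun m : P₀.left ⟶ M.left => m (γ.left n))
        (pullback.condition (f := k.left ≫ bcFst e M) (g := q₀.left))
      refine Eq.trans hh.symm ?_
      show (k.left ≫ bcFst e M) (pullback.fst (k.left ≫ bcFst e M) q₀.left (γ.left n)) = v
      rw [← hy, ← hgn]
      exact congrArg (fun z => (k.left ≫ bcFst e M) z) (congrArg (fun m : N ⟶ P => m.left n) hγ₁)
    · let ρ := pbRestr e k q₀ (openIncl M₀ O)
      have e1 : G.obj.map ρ.op A₁ = G.obj.map (pbMap e k (openIncl M₀ O ≫ q₀)).op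
          (unitShSec e F (openSub M₀ O) (F.obj.map (openIncl M₀ O).op t₀)) := by
        refine (Functor.map_comp_apply G.obj (pbMap e k q₀).op ρ.op _).symm.trans ?_
        refine (congrArg (fun m => G.obj.map m.op (unitShSec e F M₀ t₀)) (pbRestr_map e k q₀ (openIncl M₀ O))).trans ?_
        refine (Functor.map_comp_apply G.obj ((EtCoh.bc e).map (openIncl M₀ O)).op _ _).trans ?_
        exact congrArg _ (unitShSec_map e F (openIncl M₀ O) t₀)
      have e2 : G.obj.map ρ.op A₂ = G.obj.map (pbFst e k (openIncl M₀ O ≫ q₀)).op σ :=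
        (Functor.map_comp_apply G.obj (pbFst e k q₀).op ρ.op σ).symm.trans
          (congrArg (fun m => G.obj.map m.op σ) (pbRestr_fst e k q₀ (openIncl M₀ O)))
      show G.obj.map _ _ = G.obj.map _ _
      rw [← e1, ← e2]
      refine eq_of_agree_sh G fun z => (mem_agree_map_iff_sh G ρ A₁ A₂ z).2 ?_
      obtain ⟨a, ha, hab⟩ := (pullback.snd (k.left ≫ bcFst e M) (openIncl M₀ O ≫ q₀).left z).2
      refine hsat a _ (hab.trans ?_) ha
      exact (congrArg (fun m : (pbObj e k (openIncl M₀ O ≫ q₀)).left ⟶ M₀.left => m z)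
        (pullback.lift_snd _ _ _ : ρ.left ≫ m₀ = _)).symm
  obtain ⟨x, hx⟩ := exists_glue_local F Q hQ huniq hex
  refine ⟨x, eq_of_agree_sh G fun y => ?_⟩
  obtain ⟨N, q, n, t, hn, ht⟩ := hex ((k.left ≫ bcFst e M) y)
  obtain ⟨z, hz1, -⟩ := Scheme.Pullback.exists_preimage_pullback (f := k.left ≫ bcFst e M) (g := q.left) y n hn.symm
  refine Set.mem_iUnion.2 ⟨pbObj e k q, Set.mem_iUnion.2 ⟨pbFst e k q, Set.mem_iUnion.2 ⟨?_, z, hz1⟩⟩⟩
  refine (Functor.map_comp_apply G.obj k.op (pbFst e k q).op _).symm.trans ?_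
  refine (congrArg (fun m => G.obj.map m.op (unitShSec e F M x)) (pbFst_comp e k q)).trans ?_
  refine (Functor.map_comp_apply G.obj ((EtCoh.bc e).map q).op (pbMap e k q).op _).trans ?_
  refine (congrArg (G.obj.map (pbMap e k q).op) ((unitShSec_map e F q x).trans
    (congrArg (unitShSec e F N) (hx N q t ht)))).trans ?_
  exact ht

end Groth.Agent.DenseUnitLib
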