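import Groth.Agent.HensH0.Agree
import Groth.Agent.StrictLocLib.SetsBC
import Groth.Agent.ASp.UnramDiag
import Groth.Agent.EtLimLib.Deg0
import Groth.Agent.EtLimLib.Stage

/-!
# Sections of pulled back sheaves along the fibres

Sections of `f^* F` are locally units of sections of `F`, so the locus where two of them agree is closed in
every fibre of `f`.
-/

set_option autoImplicit false
set_option linter.unusedSectionVars false
set_option linter.style.haveILetI false
set_option backward.isDefEq.respectTransparency false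
set_option backward.isDefEq.respectTransparency.types false
set_option maxHeartbeats 1000000

universe u

open CategoryTheory CategoryTheory.Limits AlgebraicGeometry Opposite Topology
open Groth.Agent.EtPtsLib Groth.Agent.StrictLocLib

noncomputable section

namespace Groth.Agent.DenseUnitLib

variable {X S : Scheme.{u}} (f : X ⟶ S) (F : EtCoh.Ab S)

/-- The unit on sections. -/
def unitSec (V : S.Etale) (t : EtCoh.sect F V) : EtCoh.sect ((EtCoh.pull f).obj F) ((EtCoh.bc f).obj V) :=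
  ((EtCoh.pullPushAdj f).unit.app F).hom.app (op V) t

theorem unitSec_map {V V' : S.Etale} (k : V' ⟶ V) (t : EtCoh.sect F V) :
    ((EtCoh.pull f).obj F).obj.map ((EtCoh.bc f).map k).op (unitSec f F V t) =
      unitSec f F V' (F.obj.map k.op t) :=
  (NatTrans.naturality_apply ((EtCoh.pullPushAdj f).unit.app F).hom k.op t).symm

theorem mem_agree_unit_iff (V : S.Etale) (t t' : EtCoh.sect F V) (y : ((EtCoh.bc f).obj V).left) :
    y ∈ agree ((EtCoh.pull f).obj F).obj (unitSec f F V t) (unitSec f F V t') ↔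
      bcFst f V y ∈ agree F.obj t t' := by
  obtain ⟨Ω, _, _, ζ, l, rfl⟩ := HensH0.exists_geom ((EtCoh.bc f).obj V) y
  let l' : (Scheme.pointSmallEtale (ζ ≫ f)).fiber.obj V := Over.homMk (liftHom ζ l ≫ bcFst f V) (by
    show (liftHom ζ l ≫ bcFst f V) ≫ V.hom = ζ ≫ f
    rw [Category.assoc, bcFst, pullback.condition, ← Category.assoc]
    exact congrArg (· ≫ f) (liftHom_comp ζ l))
  have hl : liftBc f ζ V l' = l := fiber_bc_ext f ζ (liftHom_liftBc_fst f ζ V l')
  exact (germ_eq_iff_mem_agree ζ _ l (unitSec f F V t) (unitSec f F V t')).symm.trans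
    ((germ_unit_eq_iff f ζ F l l' hl t t').trans ((germ_eq_iff_mem_agree (ζ ≫ f) F.obj l' t t').trans
      (by
        show liftHom (ζ ≫ f) l' default ∈ _ ↔ _
        exact Iff.of_eq (congrArg (· ∈ agree F.obj t t') (Scheme.Hom.comp_apply _ _ _)))))

/-- A section of `f^* F` is locally the unit of a section of `F`. -/
theorem exists_local_form {W : X.Etale} (s : EtCoh.sect ((EtCoh.pull f).obj F) W) (w : W.left) :
    ∃ (N : X.Etale) (g : N ⟶ W) (n : N.left) (V : S.Etale) (b : N ⟶ (EtCoh.bc f).obj V) (t : EtCoh.sect F V),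
      g.left n = w ∧ ((EtCoh.pull f).obj F).obj.map g.op s =
        ((EtCoh.pull f).obj F).obj.map b.op (unitSec f F V t) := by
  obtain ⟨Ω, _, _, ζ, l, rfl⟩ := HensH0.exists_geom W w
  let G := (EtCoh.pull f).obj F
  obtain ⟨a, ha⟩ := (bijective_unitStalk f ζ F).2 ((Scheme.pointSmallEtale ζ).toPresheafFiber W l G.obj s)
  obtain ⟨V, m, t, rfl⟩ := (Scheme.pointSmallEtale (ζ ≫ f)).toPresheafFiber_jointly_surjective (P := F.obj) a
  have h1 : (Scheme.pointSmallEtale ζ).toPresheafFiber ((EtCoh.bc f).obj V) (liftBc f ζ V m) G.obj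
      (unitSec f F V t) = (Scheme.pointSmallEtale ζ).toPresheafFiber W l G.obj s :=
    (unitStalk_germ f ζ F V m t).symm.trans ha
  haveI := (Scheme.pointSmallEtale ζ).isCofiltered
  obtain ⟨⟨N₀, n₀⟩, a₁, a₂, -⟩ := IsCofilteredOrEmpty.cone_objs
    (Functor.elementsMk (Scheme.pointSmallEtale ζ).fiber W l)
    (Functor.elementsMk (Scheme.pointSmallEtale ζ).fiber ((EtCoh.bc f).obj V) (liftBc f ζ V m))
  let g₀ : N₀ ⟶ W := a₁.1
  let b₀ : N₀ ⟶ (EtCoh.bc f).obj V := a₂.1
  have hg₀ : (Scheme.pointSmallEtale ζ).fiber.map g₀ n₀ = l := a₁.2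
  have hb₀ : (Scheme.pointSmallEtale ζ).fiber.map b₀ n₀ = liftBc f ζ V m := a₂.2
  have h2 : (Scheme.pointSmallEtale ζ).toPresheafFiber N₀ n₀ G.obj (G.obj.map g₀.op s) =
      (Scheme.pointSmallEtale ζ).toPresheafFiber N₀ n₀ G.obj (G.obj.map b₀.op (unitSec f F V t)) := by
    refine ((Scheme.pointSmallEtale ζ).toPresheafFiber_w_apply g₀ n₀ G.obj s).trans ?_
    refine Eq.trans ?_ ((Scheme.pointSmallEtale ζ).toPresheafFiber_w_apply b₀ n₀ G.obj (unitSec f F V t)).symm
    rw [hg₀, hb₀]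
    exact h1.symm
  obtain ⟨N, k, n, hn, e⟩ := ((Scheme.pointSmallEtale ζ).toPresheafFiber_eq_iff' N₀ n₀ _ _).1 h2
  refine ⟨N, k ≫ g₀, liftHom ζ n default, V, k ≫ b₀, t, ?_, ?_⟩
  · refine Eq.trans ?_ (EtLimLib.hom_congr_apply ((liftHom_map ζ (k ≫ g₀) n).symm.trans
      (congrArg (liftHom ζ) (by rw [Functor.map_comp_apply, hn, hg₀]))) default)
    exact (Scheme.Hom.comp_apply _ _ _).symm
  · rw [op_comp, op_comp, Functor.map_comp_apply, Functor.map_comp_apply]
    exact e

/-- Where two sections of `f^* F` disagree, they disagree on a neighbourhood within the fibre. -/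
theorem exists_nhd_disagree {W : X.Etale} (s t : EtCoh.sect ((EtCoh.pull f).obj F) W) (w : W.left)
    (hw : w ∉ agree ((EtCoh.pull f).obj F).obj s t) :
    ∃ O : W.left.Opens, w ∈ O ∧ ∀ w' ∈ O, f (W.hom w') = f (W.hom w) →
      w' ∉ agree ((EtCoh.pull f).obj F).obj s t := by
  let G := (EtCoh.pull f).obj F
  obtain ⟨N₁, g₁, n₁, V₁, b₁, t₁, hn₁, e₁⟩ := exists_local_form f F s w
  obtain ⟨N₂, g₂, n₂, V₂, b₂, t₂, hn₂, e₂⟩ := exists_local_form f F t w
  haveI := etale_left g₁
  haveI := etale_left g₂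
  obtain ⟨n, hn1, hn2⟩ := Scheme.Pullback.exists_preimage_pullback n₁ n₂ (hn₁.trans hn₂.symm)
  haveI : Etale (pullback.fst g₁.left g₂.left) := MorphismProperty.pullback_fst _ _ ‹_›
  haveI : Etale N₁.hom := N₁.prop
  let N : X.Etale := Scheme.Etale.mk (pullback.fst g₁.left g₂.left ≫ N₁.hom)
  let p₁ : N ⟶ N₁ := MorphismProperty.Over.homMk (pullback.fst g₁.left g₂.left) rfl
  let p₂ : N ⟶ N₂ := MorphismProperty.Over.homMk (pullback.snd g₁.left g₂.left) (by
    show pullback.snd g₁.left g₂.left ≫ N₂.hom = pullback.fst g₁.left g₂.left ≫ N₁.hom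
    rw [← MorphismProperty.Over.w g₁, ← MorphismProperty.Over.w g₂, ← Category.assoc, ← pullback.condition,
      Category.assoc])
  let g : N ⟶ W := p₁ ≫ g₁
  have hg : p₂ ≫ g₂ = g := MorphismProperty.Over.Hom.ext pullback.condition.symm
  have hgn : g.left n = w := (Scheme.Hom.comp_apply _ _ _).trans ((congrArg g₁.left hn1).trans hn₁)
  let V := HensH0.prod2 V₁ V₂
  let c₁ : N ⟶ (EtCoh.bc f).obj V₁ := p₁ ≫ b₁
  let c₂ : N ⟶ (EtCoh.bc f).obj V₂ := p₂ ≫ b₂
  have hc₁ : (c₁.left ≫ bcFst f V₁) ≫ V₁.hom = N.hom ≫ f := by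
    rw [Category.assoc, bcFst, pullback.condition, ← Category.assoc]
    exact congrArg (· ≫ f) (MorphismProperty.Over.w c₁)
  have hc₂ : (c₂.left ≫ bcFst f V₂) ≫ V₂.hom = N.hom ≫ f := by
    rw [Category.assoc, bcFst, pullback.condition, ← Category.assoc]
    exact congrArg (· ≫ f) (MorphismProperty.Over.w c₂)
  let pr : N.left ⟶ V.left := pullback.lift (c₁.left ≫ bcFst f V₁) (c₂.left ≫ bcFst f V₂) (hc₁.trans hc₂.symm)
  have hpr : pr ≫ V.hom = N.hom ≫ f := by
    show pr ≫ pullback.fst V₁.hom V₂.hom ≫ V₁.hom = _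
    rw [pullback.lift_fst_assoc]
    exact (Category.assoc _ _ _).symm.trans hc₁
  let β : N ⟶ (EtCoh.bc f).obj V := MorphismProperty.Over.homMk
    (pullback.lift pr N.hom hpr) (pullback.lift_snd _ _ _)
  have hβ₁ : β ≫ (EtCoh.bc f).map (HensH0.fst2 V₁ V₂) = c₁ := EtLimLib.bc_ext f (by
    show (β.left ≫ ((EtCoh.bc f).map _).left) ≫ _ = _
    rw [Category.assoc, EtLimLib.bc_map_fst, ← Category.assoc,
      show β.left ≫ pullback.fst V.hom f = pr from pullback.lift_fst _ _ _]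
    exact pullback.lift_fst _ _ _)
  have hβ₂ : β ≫ (EtCoh.bc f).map (HensH0.snd2 V₁ V₂) = c₂ := EtLimLib.bc_ext f (by
    show (β.left ≫ ((EtCoh.bc f).map _).left) ≫ _ = _
    rw [Category.assoc, EtLimLib.bc_map_fst, ← Category.assoc,
      show β.left ≫ pullback.fst V.hom f = pr from pullback.lift_fst _ _ _]
    exact pullback.lift_snd _ _ _)
  let t₁' := F.obj.map (HensH0.fst2 V₁ V₂).op t₁
  let t₂' := F.obj.map (HensH0.snd2 V₁ V₂).op t₂
  have E₁ : G.obj.map g.op s = G.obj.map β.op (unitSec f F V t₁') := by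
    rw [← unitSec_map, ← Functor.map_comp_apply, ← op_comp, hβ₁, op_comp, op_comp, Functor.map_comp_apply,
      Functor.map_comp_apply]
    exact congrArg (G.obj.map p₁.op) e₁
  have E₂ : G.obj.map g.op t = G.obj.map β.op (unitSec f F V t₂') := by
    rw [← unitSec_map, ← Functor.map_comp_apply, ← op_comp, hβ₂, ← hg, op_comp, op_comp, Functor.map_comp_apply,
      Functor.map_comp_apply]
    exact congrArg (G.obj.map p₂.op) e₂
  have key : ∀ z : N.left, g.left z ∈ agree G.obj s t ↔ pr z ∈ agree F.obj t₁' t₂' := fun z => by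
    rw [← HensH0.mem_agree_map_iff G g s t z, E₁, E₂, HensH0.mem_agree_map_iff G β _ _ z,
      mem_agree_unit_iff, ← Scheme.Hom.comp_apply]
    exact Iff.of_eq (congrArg (fun m : N.left ⟶ V.left => m z ∈ agree F.obj t₁' t₂') (pullback.lift_fst _ _ _))
  have hv : pr n ∉ agree F.obj t₁' t₂' := fun h => hw (hgn ▸ (key n).2 h)
  haveI : Etale V.hom := V.prop
  haveI : Etale (pullback.fst V.hom V.hom) := MorphismProperty.pullback_fst _ _ ‹_›
  haveI : LocallyQuasiFinite V.hom := ASp.locallyQuasiFinite_of_etale_self V.hom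
  have hd := V.hom.isDiscrete_preimage_singleton (V.hom (pr n))
  haveI := isDiscrete_iff_discreteTopology.1 hd
  obtain ⟨Ov, hOv, hOe⟩ := isOpen_induced_iff.1
    (isOpen_discrete ({⟨pr n, rfl⟩} : Set ↥(V.hom ⁻¹' {V.hom (pr n)})))
  haveI := etale_left g
  refine ⟨⟨g.left '' (pr ⁻¹' Ov), g.left.isOpenMap _ (hOv.preimage pr.continuous)⟩,
    ⟨n, (Set.ext_iff.1 hOe ⟨pr n, rfl⟩).2 rfl, hgn⟩, ?_⟩
  rintro _ ⟨z, hz, rfl⟩ hfz
  have hgw : g.left ≫ W.hom = N.hom := MorphismProperty.Over.w g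
  have hpr' : pr ≫ V.hom = g.left ≫ W.hom ≫ f := hpr.trans ((congrArg (· ≫ f) hgw).symm.trans (Category.assoc _ _ _))
  have hs : ∀ a : N.left, V.hom (pr a) = f (W.hom (g.left a)) := fun a =>
    congrArg (fun m : N.left ⟶ S => m a) hpr' 
  have hzv : V.hom (pr z) = V.hom (pr n) := by rw [hs, hs, hgn, hfz]
  have hze : pr z = pr n := congrArg Subtype.val ((Set.ext_iff.1 hOe ⟨pr z, hzv⟩).1 hz)
  rw [key, hze]
  exact hv

/-- The agreement locus of two sections of `f^* F` contains the preconnected subsets of fibres it meets. -/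
theorem subset_agree {W : X.Etale} (s t : EtCoh.sect ((EtCoh.pull f).obj F) W) {C : Set W.left}
    (hC : _root_.IsPreconnected C) {x : S} (hCx : ∀ c ∈ C, f (W.hom c) = x)
    (hne : (C ∩ agree ((EtCoh.pull f).obj F).obj s t).Nonempty) :
    C ⊆ agree ((EtCoh.pull f).obj F).obj s t := by
  let A := agree ((EtCoh.pull f).obj F).obj s t
  intro c hc
  by_contra hcA
  choose O hwO hO using fun a : (C \ A : Set W.left) => exists_nhd_disagree f F s t a.1 a.2.2
  obtain ⟨d, hdC, hdA, hdO⟩ := hC A (⋃ a, (O a : Set W.left)) (isOpen_agree _ _ _)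
    (isOpen_iUnion fun a => (O a).2)
    (fun a ha => by
      by_cases h : a ∈ A
      · exact Or.inl h
      · exact Or.inr (Set.mem_iUnion.2 ⟨⟨a, ha, h⟩, hwO ⟨a, ha, h⟩⟩))
    hne ⟨c, hc, Set.mem_iUnion.2 ⟨⟨c, hc, hcA⟩, hwO ⟨c, hc, hcA⟩⟩⟩
  obtain ⟨a, ha⟩ := Set.mem_iUnion.1 hdO
  exact hO a d ha ((hCx d hdC).trans (hCx a.1 a.2.1).symm) hdA

/-- A subset dense in the fibres through which two sections agree forces equality. -/
theorem subset_agree_of_closure {W : X.Etale} (s t : EtCoh.sect ((EtCoh.pull f).obj F) W) (w : W.left)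
    (hw : w ∈ closure (agree ((EtCoh.pull f).obj F).obj s t ∩ {y | f (W.hom y) = f (W.hom w)})) :
    w ∈ agree ((EtCoh.pull f).obj F).obj s t := by
  by_contra hn
  obtain ⟨O, hwO, hO⟩ := exists_nhd_disagree f F s t w hn
  obtain ⟨y, hyO, hyA, hyf⟩ := mem_closure_iff.1 hw O O.2 hwO
  exact hO y hyO hyf hyA

end Groth.Agent.DenseUnitLib
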