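import Groth.Agent.DenseUnitLib.Relative
import Groth.Agent.ZeroAcycLib.Clopen

/-!
# Agreement loci of sections of inverse images of sheaves of sets
-/

set_option autoImplicit false
set_option linter.unusedSectionVars false
set_option linter.style.haveILetI false
set_option backward.isDefEq.respectTransparency false
set_option backward.isDefEq.respectTransparency.types false
set_option maxHeartbeats 1000000

universe u

open CategoryTheory CategoryTheory.Limits AlgebraicGeometry Opposite Topology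
open Groth.Agent.EtPtsLib Groth.Agent.StrictLocLib

noncomputable section

namespace Groth.Agent.DenseUnitLib

section Basic

variable {X : Scheme.{u}} (F : EtDesc.Sh X)

theorem agree_self_sh {U : X.Etale} (s : EtDesc.sect F U) (p : U.left) : p ∈ agree F.obj s s :=
  Set.mem_iUnion.2 ⟨U, Set.mem_iUnion.2 ⟨𝟙 U, Set.mem_iUnion.2 ⟨rfl, ⟨p, rfl⟩⟩⟩⟩

theorem mem_agree_map_iff_sh {U W : X.Etale} (g : W ⟶ U) (s t : EtDesc.sect F U) (p : W.left) :
    p ∈ agree F.obj (F.obj.map g.op s) (F.obj.map g.op t) ↔ g.left p ∈ agree F.obj s t := by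
  obtain ⟨Ω, _, _, ξ, l, rfl⟩ := HensH0.exists_geom W p
  have hgp : liftHom ξ ((Scheme.pointSmallEtale ξ).fiber.map g l) default = g.left (liftHom ξ l default) :=
    Scheme.Hom.comp_apply _ _ _
  have ws := (Scheme.pointSmallEtale ξ).toPresheafFiber_w_apply g l F.obj s
  have wt := (Scheme.pointSmallEtale ξ).toPresheafFiber_w_apply g l F.obj t
  refine (ZeroAcycLib.germ_sh_iff F ξ l _ _).symm.trans (Iff.trans ?_
    ((ZeroAcycLib.germ_sh_iff F ξ ((Scheme.pointSmallEtale ξ).fiber.map g l) s t).trans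
      (Iff.of_eq (congrArg (fun z => z ∈ agree F.obj s t) hgp))))
  exact ⟨fun e => ws.symm.trans (e.trans wt), fun e => ws.trans (e.trans wt.symm)⟩

theorem agree_symm_sh {U : X.Etale} {s t : EtDesc.sect F U} {p : U.left} (h : p ∈ agree F.obj s t) :
    p ∈ agree F.obj t s := by
  obtain ⟨Ω, _, _, ξ, l, rfl⟩ := HensH0.exists_geom U p
  exact (ZeroAcycLib.germ_sh_iff F ξ l t s).1 ((ZeroAcycLib.germ_sh_iff F ξ l s t).2 h).symm

/-- Sections agreeing near every point are equal. -/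
theorem eq_of_agree_sh {U : X.Etale} {s t : EtDesc.sect F U} (h : ∀ p : U.left, p ∈ agree F.obj s t) : s = t := by
  refine sect_eq_of_cover F U s t fun p => ?_
  obtain ⟨W, hW⟩ := Set.mem_iUnion.1 (h p)
  obtain ⟨g, hg⟩ := Set.mem_iUnion.1 hW
  obtain ⟨hst, v, hv⟩ := Set.mem_iUnion.1 hg
  exact ⟨W, g, v, hv, hst⟩

/-- Gluing of sections with unique local existence. -/
theorem exists_glue_local {U : X.Etale} (Q : ∀ (N : X.Etale), (N ⟶ U) → EtDesc.sect F N → Prop)
    (hQ : ∀ {N M : X.Etale} (g : N ⟶ U) (k : M ⟶ N) (τ : EtDesc.sect F N), Q N g τ → Q M (k ≫ g) (F.obj.map k.op τ))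
    (huniq : ∀ {N : X.Etale} (g : N ⟶ U) (τ τ' : EtDesc.sect F N), Q N g τ → Q N g τ' → τ = τ')
    (hex : ∀ p : U.left, ∃ (N : X.Etale) (g : N ⟶ U) (n : N.left) (τ : EtDesc.sect F N), g.left n = p ∧ Q N g τ) :
    ∃ x : EtDesc.sect F U, ∀ (N : X.Etale) (g : N ⟶ U) (τ : EtDesc.sect F N), Q N g τ → F.obj.map g.op x = τ := by
  let R : Sieve U :=
    { arrows := fun N g => ∃ τ, Q N g τ
      downward_closed := fun {N M g} ⟨τ, hτ⟩ k => ⟨_, hQ g k τ hτ⟩ }
  have hR : R ∈ X.smallEtaleTopology U := detects X R fun x l => by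
    obtain ⟨N, g, n, τ, hn, hτ⟩ := hex (liftHom _ l default)
    obtain ⟨z, hz⟩ := exists_fiber_map_eq _ g l n hn
    exact ⟨N, g, ⟨τ, hτ⟩, z, hz⟩
  have hG := (isSheaf_iff_isSheaf_of_type _ _).1 F.property _ hR
  let x : Presieve.FamilyOfElements F.obj R.arrows := fun N g hg => hg.choose
  have hc : x.Compatible := by
    intro Y₁ Y₂ Z a₁ a₂ f₁ f₂ h₁ h₂ e
    exact huniq (a₁ ≫ f₁) _ _ (hQ f₁ a₁ _ h₁.choose_spec) (e ▸ hQ f₂ a₂ _ h₂.choose_spec)
  refine ⟨hG.amalgamate x hc, fun N g τ hτ => ?_⟩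
  exact (hG.valid_glue hc g ⟨τ, hτ⟩).trans (huniq g _ _ (Exists.choose_spec (⟨τ, hτ⟩ : ∃ τ, Q N g τ)) hτ)

end Basic

variable {X S : Scheme.{u}} (f : X ⟶ S) (F : EtDesc.Sh S)

/-- The unit on sections of a sheaf of sets. -/
def unitShSec (V : S.Etale) (t : EtDesc.sect F V) : EtDesc.sect ((EtDesc.pullSh f).obj F) ((EtCoh.bc f).obj V) :=
  ((EtDesc.adjSh f).unit.app F).hom.app (op V) t

theorem unitShSec_map {V V' : S.Etale} (k : V' ⟶ V) (t : EtDesc.sect F V) :
    ((EtDesc.pullSh f).obj F).obj.map ((EtCoh.bc f).map k).op (unitShSec f F V t) =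
      unitShSec f F V' (F.obj.map k.op t) :=
  (NatTrans.naturality_apply ((EtDesc.adjSh f).unit.app F).hom k.op t).symm

theorem mem_agree_unitSh_iff (V : S.Etale) (t t' : EtDesc.sect F V) (y : ((EtCoh.bc f).obj V).left) :
    y ∈ agree ((EtDesc.pullSh f).obj F).obj (unitShSec f F V t) (unitShSec f F V t') ↔
      bcFst f V y ∈ agree F.obj t t' := by
  refine ⟨ZeroAcycLib.mem_agree_of_unit_sh f F t t' y, fun hy => ?_⟩
  obtain ⟨W, hW⟩ := Set.mem_iUnion.1 hy
  obtain ⟨g, hg⟩ := Set.mem_iUnion.1 hW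
  obtain ⟨e, v, hv⟩ := Set.mem_iUnion.1 hg
  obtain ⟨z, hz1, -⟩ := Scheme.Pullback.exists_preimage_pullback (f := bcFst f V) (g := g.left) y v hv.symm
  refine Set.mem_iUnion.2 ⟨(EtCoh.bc f).obj W, Set.mem_iUnion.2 ⟨(EtCoh.bc f).map g, Set.mem_iUnion.2
    ⟨?_, (EtCoh.isPullback_bc_map f g).isoPullback.inv z, ?_⟩⟩⟩
  · refine (unitShSec_map f F g t).trans (Eq.trans ?_ (unitShSec_map f F g t').symm)
    exact congrArg (unitShSec f F W) e
  · refine Eq.trans ?_ hz1
    exact (Scheme.Hom.comp_apply _ _ _).symm.trans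
      (EtLimLib.hom_congr_apply (EtCoh.isPullback_bc_map f g).isoPullback_inv_fst z)

/-- A section of `f^* F` is locally the unit of a section of `F`. -/
theorem exists_local_form_sh {W : X.Etale} (s : EtDesc.sect ((EtDesc.pullSh f).obj F) W) (w : W.left) :
    ∃ (N : X.Etale) (g : N ⟶ W) (n : N.left) (V : S.Etale) (b : N ⟶ (EtCoh.bc f).obj V) (t : EtDesc.sect F V),
      g.left n = w ∧ ((EtDesc.pullSh f).obj F).obj.map g.op s =
        ((EtDesc.pullSh f).obj F).obj.map b.op (unitShSec f F V t) := by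
  obtain ⟨Ω, _, _, ζ, l, rfl⟩ := HensH0.exists_geom W w
  let G := (EtDesc.pullSh f).obj F
  obtain ⟨a, ha⟩ := (bijective_unitStalk f ζ F).2 ((Scheme.pointSmallEtale ζ).toPresheafFiber W l G.obj s)
  obtain ⟨V, m, t, rfl⟩ := (Scheme.pointSmallEtale (ζ ≫ f)).toPresheafFiber_jointly_surjective (P := F.obj) a
  have h1 : (Scheme.pointSmallEtale ζ).toPresheafFiber ((EtCoh.bc f).obj V) (liftBc f ζ V m) G.obj
      (unitShSec f F V t) = (Scheme.pointSmallEtale ζ).toPresheafFiber W l G.obj s :=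
    (unitStalk_germ f ζ F V m t).symm.trans ha
  haveI := (Scheme.pointSmallEtale ζ).isCofiltered
  obtain ⟨⟨N₀, n₀⟩, a₁, a₂, -⟩ := IsCofilteredOrEmpty.cone_objs
    (Functor.elementsMk (Scheme.pointSmallEtale ζ).fiber W l)
    (Functor.elementsMk (Scheme.pointSmallEtale ζ).fiber ((EtCoh.bc f).obj V) (liftBc f ζ V m))
  let g₀ : N₀ ⟶ W := a₁.1
  let b₀ : N₀ ⟶ (EtCoh.bc f).obj V := a₂.1
  have hg₀ : (Scheme.pointSmallEtale ζ).fiber.map g₀ n₀ = l := a₁.2
  have hb₀ : (Scheme.pointSmallEtale ζ).fiber.map b₀ n₀ = liftBc f ζ V m := a₂.2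
  have h2 : (Scheme.pointSmallEtale ζ).toPresheafFiber N₀ n₀ G.obj (G.obj.map g₀.op s) =
      (Scheme.pointSmallEtale ζ).toPresheafFiber N₀ n₀ G.obj (G.obj.map b₀.op (unitShSec f F V t)) := by
    refine ((Scheme.pointSmallEtale ζ).toPresheafFiber_w_apply g₀ n₀ G.obj s).trans ?_
    refine Eq.trans ?_ ((Scheme.pointSmallEtale ζ).toPresheafFiber_w_apply b₀ n₀ G.obj (unitShSec f F V t)).symm
    rw [hg₀, hb₀]
    exact h1.symm
  obtain ⟨N, k, n, hn, e⟩ := ((Scheme.pointSmallEtale ζ).toPresheafFiber_eq_iff' N₀ n₀ _ _).1 h2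
  refine ⟨N, k ≫ g₀, liftHom ζ n default, V, k ≫ b₀, t, ?_, ?_⟩
  · refine Eq.trans ?_ (EtLimLib.hom_congr_apply ((liftHom_map ζ (k ≫ g₀) n).symm.trans
      (congrArg (liftHom ζ) (by rw [Functor.map_comp_apply, hn, hg₀]))) default)
    exact (Scheme.Hom.comp_apply _ _ _).symm
  · rw [op_comp, op_comp, Functor.map_comp_apply, Functor.map_comp_apply]
    exact e

/-- Two sections of `f^* F` are locally the units of two sections of `F` over one étale scheme. -/
theorem exists_common_form {W : X.Etale} (s t : EtDesc.sect ((EtDesc.pullSh f).obj F) W) (w : W.left) :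
    ∃ (N : X.Etale) (g : N ⟶ W) (n : N.left) (V : S.Etale) (b : N ⟶ (EtCoh.bc f).obj V) (x x' : EtDesc.sect F V),
      g.left n = w ∧
      ((EtDesc.pullSh f).obj F).obj.map g.op s = ((EtDesc.pullSh f).obj F).obj.map b.op (unitShSec f F V x) ∧
      ((EtDesc.pullSh f).obj F).obj.map g.op t = ((EtDesc.pullSh f).obj F).obj.map b.op (unitShSec f F V x') := by
  let G := (EtDesc.pullSh f).obj F
  obtain ⟨N₁, g₁, n₁, V₁, b₁, t₁, hn₁, e₁⟩ := exists_local_form_sh f F s w
  obtain ⟨N₂, g₂, n₂, V₂, b₂, t₂, hn₂, e₂⟩ := exists_local_form_sh f F t w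
  haveI := etale_left g₁
  haveI := etale_left g₂
  obtain ⟨n, hn1, hn2⟩ := Scheme.Pullback.exists_preimage_pullback n₁ n₂ (hn₁.trans hn₂.symm)
  haveI : Etale (pullback.fst g₁.left g₂.left) := MorphismProperty.pullback_fst _ _ ‹_›
  haveI : Etale N₁.hom := N₁.prop
  let N : X.Etale := Scheme.Etale.mk (pullback.fst g₁.left g₂.left ≫ N₁.hom)
  let p₁ : N ⟶ N₁ := MorphismProperty.Over.homMk (pullback.fst g₁.left g₂.left) rfl
  let p₂ : N ⟶ N₂ := MorphismProperty.Over.homMk (pullback.snd g₁.left g₂.left) (by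
    show pullback.snd g₁.left g₂.left ≫ N₂.hom = pullback.fst g₁.left g₂.left ≫ N₁.hom
    rw [← MorphismProperty.Over.w g₁, ← MorphismProperty.Over.w g₂, ← Category.assoc, ← pullback.condition,
      Category.assoc])
  let g : N ⟶ W := p₁ ≫ g₁
  have hg : p₂ ≫ g₂ = g := MorphismProperty.Over.Hom.ext pullback.condition.symm
  let V := HensH0.prod2 V₁ V₂
  let c₁ : N ⟶ (EtCoh.bc f).obj V₁ := p₁ ≫ b₁
  let c₂ : N ⟶ (EtCoh.bc f).obj V₂ := p₂ ≫ b₂
  have hc₁ : (c₁.left ≫ bcFst f V₁) ≫ V₁.hom = N.hom ≫ f := by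
    rw [Category.assoc, bcFst, pullback.condition, ← Category.assoc]
    exact congrArg (· ≫ f) (MorphismProperty.Over.w c₁)
  have hc₂ : (c₂.left ≫ bcFst f V₂) ≫ V₂.hom = N.hom ≫ f := by
    rw [Category.assoc, bcFst, pullback.condition, ← Category.assoc]
    exact congrArg (· ≫ f) (MorphismProperty.Over.w c₂)
  let pr : N.left ⟶ V.left := pullback.lift (c₁.left ≫ bcFst f V₁) (c₂.left ≫ bcFst f V₂) (hc₁.trans hc₂.symm)
  have hpr : pr ≫ V.hom = N.hom ≫ f := by
    show pr ≫ pullback.fst V₁.hom V₂.hom ≫ V₁.hom = _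
    rw [pullback.lift_fst_assoc]
    exact (Category.assoc _ _ _).symm.trans hc₁
  let β : N ⟶ (EtCoh.bc f).obj V := MorphismProperty.Over.homMk
    (pullback.lift pr N.hom hpr) (pullback.lift_snd _ _ _)
  have hβ₁ : β ≫ (EtCoh.bc f).map (HensH0.fst2 V₁ V₂) = c₁ := EtLimLib.bc_ext f (by
    show (β.left ≫ ((EtCoh.bc f).map _).left) ≫ _ = _
    rw [Category.assoc, EtLimLib.bc_map_fst, ← Category.assoc,
      show β.left ≫ pullback.fst V.hom f = pr from pullback.lift_fst _ _ _]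
    exact pullback.lift_fst _ _ _)
  have hβ₂ : β ≫ (EtCoh.bc f).map (HensH0.snd2 V₁ V₂) = c₂ := EtLimLib.bc_ext f (by
    show (β.left ≫ ((EtCoh.bc f).map _).left) ≫ _ = _
    rw [Category.assoc, EtLimLib.bc_map_fst, ← Category.assoc,
      show β.left ≫ pullback.fst V.hom f = pr from pullback.lift_fst _ _ _]
    exact pullback.lift_snd _ _ _)
  refine ⟨N, g, n, V, β, F.obj.map (HensH0.fst2 V₁ V₂).op t₁, F.obj.map (HensH0.snd2 V₁ V₂).op t₂,
    (Scheme.Hom.comp_apply _ _ _).trans ((congrArg g₁.left hn1).trans hn₁), ?_, ?_⟩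
  · refine ((Functor.map_comp_apply G.obj g₁.op p₁.op s).trans
      ((congrArg (G.obj.map p₁.op) e₁).trans (Functor.map_comp_apply G.obj b₁.op p₁.op _).symm)).trans ?_
    refine Eq.trans ?_ (congrArg (G.obj.map β.op) (unitShSec_map f F (HensH0.fst2 V₁ V₂) t₁))
    refine Eq.trans ?_ (Functor.map_comp_apply G.obj ((EtCoh.bc f).map (HensH0.fst2 V₁ V₂)).op β.op _)
    exact congrArg (fun k => G.obj.map k.op (unitShSec f F V₁ t₁)) hβ₁.symm
  · refine (congrArg (fun k => G.obj.map k.op t) hg.symm).trans ?_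
    refine ((Functor.map_comp_apply G.obj g₂.op p₂.op t).trans
      ((congrArg (G.obj.map p₂.op) e₂).trans (Functor.map_comp_apply G.obj b₂.op p₂.op _).symm)).trans ?_
    refine Eq.trans ?_ (congrArg (G.obj.map β.op) (unitShSec_map f F (HensH0.snd2 V₁ V₂) t₂))
    refine Eq.trans ?_ (Functor.map_comp_apply G.obj ((EtCoh.bc f).map (HensH0.snd2 V₁ V₂)).op β.op _)
    exact congrArg (fun k => G.obj.map k.op (unitShSec f F V₂ t₂)) hβ₂.symm

/-- Where two sections of `f^* F` disagree, they disagree on a neighbourhood within the fibre. -/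
theorem exists_nhd_disagree_sh {W : X.Etale} (s t : EtDesc.sect ((EtDesc.pullSh f).obj F) W) (w : W.left)
    (hw : w ∉ agree ((EtDesc.pullSh f).obj F).obj s t) :
    ∃ O : W.left.Opens, w ∈ O ∧ ∀ w' ∈ O, f (W.hom w') = f (W.hom w) →
      w' ∉ agree ((EtDesc.pullSh f).obj F).obj s t := by
  let G := (EtDesc.pullSh f).obj F
  obtain ⟨N, g, n, V, β, x, x', hgn, E₁, E₂⟩ := exists_common_form f F s t w
  let pr : N.left ⟶ V.left := β.left ≫ bcFst f V
  have key : ∀ z : N.left, g.left z ∈ agree G.obj s t ↔ pr z ∈ agree F.obj x x' := fun z => by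
    refine (mem_agree_map_iff_sh G g s t z).symm.trans ?_
    rw [E₁, E₂]
    refine (mem_agree_map_iff_sh G β _ _ z).trans ((mem_agree_unitSh_iff f F V x x' _).trans ?_)
    exact Iff.of_eq (congrArg (fun a => a ∈ agree F.obj x x') (Scheme.Hom.comp_apply _ _ _).symm)
  have hv : pr n ∉ agree F.obj x x' := fun h => hw (hgn ▸ (key n).2 h)
  haveI : Etale V.hom := V.prop
  haveI : Etale (pullback.fst V.hom V.hom) := MorphismProperty.pullback_fst _ _ ‹_›
  haveI : LocallyQuasiFinite V.hom := ASp.locallyQuasiFinite_of_etale_self V.hom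
  have hd := V.hom.isDiscrete_preimage_singleton (V.hom (pr n))
  haveI := isDiscrete_iff_discreteTopology.1 hd
  obtain ⟨Ov, hOv, hOe⟩ := isOpen_induced_iff.1
    (isOpen_discrete ({⟨pr n, rfl⟩} : Set ↥(V.hom ⁻¹' {V.hom (pr n)})))
  haveI := etale_left g
  refine ⟨⟨g.left '' (pr ⁻¹' Ov), g.left.isOpenMap _ (hOv.preimage pr.continuous)⟩,
    ⟨n, (Set.ext_iff.1 hOe ⟨pr n, rfl⟩).2 rfl, hgn⟩, ?_⟩
  rintro _ ⟨z, hz, rfl⟩ hfz
  have hgw : g.left ≫ W.hom = N.hom := MorphismProperty.Over.w g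
  have hpr : pr ≫ V.hom = N.hom ≫ f := by
    show (β.left ≫ bcFst f V) ≫ V.hom = _
    rw [Category.assoc, bcFst, pullback.condition, ← Category.assoc]
    exact congrArg (· ≫ f) (MorphismProperty.Over.w β)
  have hpr' : pr ≫ V.hom = g.left ≫ W.hom ≫ f := hpr.trans ((congrArg (· ≫ f) hgw).symm.trans (Category.assoc _ _ _))
  have hs : ∀ a : N.left, V.hom (pr a) = f (W.hom (g.left a)) := fun a =>
    congrArg (fun m : N.left ⟶ S => m a) hpr'
  have hzv : V.hom (pr z) = V.hom (pr n) := by rw [hs, hs, hgn, hfz]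
  have hze : pr z = pr n := congrArg Subtype.val ((Set.ext_iff.1 hOe ⟨pr z, hzv⟩).1 hz)
  rw [key, hze]
  exact hv

/-- The agreement locus of two sections of `f^* F` contains the preconnected subsets of fibres it meets. -/
theorem subset_agree_sh {W : X.Etale} (s t : EtDesc.sect ((EtDesc.pullSh f).obj F) W) {C : Set W.left}
    (hC : _root_.IsPreconnected C) {x : S} (hCx : ∀ c ∈ C, f (W.hom c) = x)
    (hne : (C ∩ agree ((EtDesc.pullSh f).obj F).obj s t).Nonempty) :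
    C ⊆ agree ((EtDesc.pullSh f).obj F).obj s t := by
  let A := agree ((EtDesc.pullSh f).obj F).obj s t
  intro c hc
  by_contra hcA
  choose O hwO hO using fun a : (C \ A : Set W.left) => exists_nhd_disagree_sh f F s t a.1 a.2.2
  obtain ⟨d, hdC, hdA, hdO⟩ := hC A (⋃ a, (O a : Set W.left)) (isOpen_agree _ _ _)
    (isOpen_iUnion fun a => (O a).2)
    (fun a ha => by
      by_cases h : a ∈ A
      · exact Or.inl h
      · exact Or.inr (Set.mem_iUnion.2 ⟨⟨a, ha, h⟩, hwO ⟨a, ha, h⟩⟩))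
    hne ⟨c, hc, Set.mem_iUnion.2 ⟨⟨c, hc, hcA⟩, hwO ⟨c, hc, hcA⟩⟩⟩
  obtain ⟨a, ha⟩ := Set.mem_iUnion.1 hdO
  exact hO a d ha ((hCx d hdC).trans (hCx a.1 a.2.1).symm) hdA

end Groth.Agent.DenseUnitLib
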