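import Groth.Agent.DenseUnitLib.Relative
import Groth.Agent.SmoothSecLib.Irred
import Groth.Agent.SmoothSecLib.Open
import Groth.Agent.EtPtsLib.OpenShriek
import Groth.Agent.EtJCont.Basic
import Groth.Agent.S0412

/-!
# The unit of a fibrewise dense open for sheaves pulled back along a smooth morphism
-/

set_option autoImplicit false
set_option linter.unusedSectionVars false
set_option linter.style.haveILetI false
set_option backward.isDefEq.respectTransparency false
set_option backward.isDefEq.respectTransparency.types false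
set_option maxHeartbeats 1000000

universe u

open CategoryTheory CategoryTheory.Limits AlgebraicGeometry Opposite Topology
open Groth.Agent.EtPtsLib

noncomputable section

namespace Groth.Agent.DenseUnitLib

variable {X U : Scheme.{u}} (j : U ⟶ X) [IsOpenImmersion j]

/-- The trace of an étale scheme on the open. -/
abbrev tr (W : X.Etale) : X.Etale := (EtShriek.compEtale j).obj ((EtCoh.bc j).obj W)

/-- The inclusion of the trace. -/
abbrev trIncl (W : X.Etale) : tr j W ⟶ W := (compBcAdj j).counit.app W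

/-- Traces of morphisms. -/
abbrev trMap {W W' : X.Etale} (g : W' ⟶ W) : tr j W' ⟶ tr j W :=
  (EtShriek.compEtale j).map ((EtCoh.bc j).map g)

theorem trIncl_left (W : X.Etale) : (trIncl j W).left = pullback.fst W.hom j := by
  show 𝟙 ((EtCoh.bc j).obj W).left ≫ pullback.fst W.hom j = _
  rw [Category.id_comp]

theorem trIncl_natural {W W' : X.Etale} (g : W' ⟶ W) : trMap j g ≫ trIncl j W = trIncl j W' ≫ g :=
  (compBcAdj j).counit.naturality g

theorem isOpenImmersion_trIncl (W : X.Etale) : IsOpenImmersion (trIncl j W).left := by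
  rw [trIncl_left]
  exact MorphismProperty.pullback_fst (P := @IsOpenImmersion) _ _ ‹_›

theorem range_trIncl (W : X.Etale) : Set.range (trIncl j W).left = W.hom ⁻¹' Set.range j := by
  rw [trIncl_left]
  exact Scheme.Pullback.range_fst W.hom j

/-- The unit of an open immersion is bijective on `W` as soon as restriction to the trace is. -/
theorem isIso_unit_of_bijective (G : EtCoh.Ab X) [EtShriek.JCont j]
    (h : ∀ W : X.Etale, Function.Bijective (G.obj.map (trIncl j W).op)) :
    IsIso ((EtCoh.pullPushAdj j).unit.app G) := by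
  have h1 : (EtCoh.pullPushAdj j).unit.app G ≫ (EtCoh.push j).map ((pullIsoRestr j).hom.app G) =
      (restrPushAdj j).unit.app G :=
    Adjunction.unit_leftAdjointUniq_hom_app _ _ G
  haveI : ∀ W, IsIso (((restrPushAdj j).unit.app G).hom.app W) := fun W =>
    (ConcreteCategory.isIso_iff_bijective _).2 (h W.unop)
  haveI : IsIso ((restrPushAdj j).unit.app G).hom := NatIso.isIso_of_isIso_app _
  haveI : IsIso ((sheafToPresheaf _ _).map ((restrPushAdj j).unit.app G)) :=
    ‹IsIso ((restrPushAdj j).unit.app G).hom›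
  haveI : IsIso ((restrPushAdj j).unit.app G) :=
    isIso_of_fully_faithful (sheafToPresheaf _ _) ((restrPushAdj j).unit.app G)
  haveI : IsIso ((EtCoh.pullPushAdj j).unit.app G ≫ (EtCoh.push j).map ((pullIsoRestr j).hom.app G)) := by
    rw [h1]; infer_instance
  exact IsIso.of_isIso_comp_right _ ((EtCoh.push j).map ((pullIsoRestr j).hom.app G))

variable {S : Scheme.{u}} (f : X ⟶ S) (F : EtCoh.Ab S)
  (hd : ∀ x : X, x ∈ closure (Set.range j ∩ {y : X | f.base y = f.base x}))

include hd in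
theorem mem_closure_trace (W : X.Etale) (w : W.left) :
    w ∈ closure (Set.range (trIncl j W).left ∩ {y | f (W.hom y) = f (W.hom w)}) := by
  haveI : Etale W.hom := W.prop
  rw [range_trIncl]
  exact W.hom.isOpenMap.preimage_closure_subset_closure_preimage (hd (W.hom w))

include hd in
theorem injective_restrict (W : X.Etale) :
    Function.Injective (((EtCoh.pull f).obj F).obj.map (trIncl j W).op) := by
  intro s t hst
  let G := (EtCoh.pull f).obj F
  refine HensH0.eq_of_agree G fun w => subset_agree_of_closure f F s t w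
    (closure_mono (Set.inter_subset_inter_left _ ?_) (mem_closure_trace j f hd W w))
  intro y hy
  exact Set.mem_iUnion.2 ⟨tr j W, Set.mem_iUnion.2 ⟨trIncl j W, Set.mem_iUnion.2 ⟨hst, hy⟩⟩⟩

variable [Smooth f]

include hd in
/-- Sections over the trace extend étale locally. -/
theorem exists_local_extension (W : X.Etale) (σ : EtCoh.sect ((EtCoh.pull f).obj F) (tr j W)) (w : W.left) :
    ∃ (N : X.Etale) (g : N ⟶ W) (n : N.left) (τ : EtCoh.sect ((EtCoh.pull f).obj F) N), g.left n = w ∧
      ((EtCoh.pull f).obj F).obj.map (trIncl j N).op τ = ((EtCoh.pull f).obj F).obj.map (trMap j g).op σ := by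
  let G := (EtCoh.pull f).obj F
  let WU := tr j W
  let c : WU ⟶ W := trIncl j W
  haveI := isOpenImmersion_trIncl j W
  haveI : Etale W.hom := W.prop
  obtain ⟨A, hA, hwA, -⟩ := exists_isAffineOpen_mem_and_subset (X := W.left) (x := w) (U := ⊤) trivial
  haveI : IsAffine (A : Scheme.{u}) := hA
  let pA : (A : Scheme.{u}) ⟶ S := A.ι ≫ W.hom ≫ f
  haveI : Smooth pA := inferInstance
  haveI : QuasiSeparated pA := inferInstance
  let P₀ := pullback pA pA
  haveI : QuasiSeparatedSpace P₀ := quasiSeparatedSpace_of_quasiSeparated (pullback.snd pA pA)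
  let diag : (A : Scheme.{u}) ⟶ P₀ := pullback.lift (𝟙 _) (𝟙 _) rfl
  have hdiag : diag ≫ pullback.snd pA pA = 𝟙 _ := pullback.lift_snd _ _ _
  haveI : Smooth (pullback.snd pA pA) := MorphismProperty.pullback_snd (P := @Smooth) _ _ ‹_›
  have hC := SmoothSecLib.isOpen_sectionComponents (pullback.snd pA pA) diag hdiag
  let U' : Set (A : Scheme.{u}) := A.ι ⁻¹' Set.range c.left
  have hU' : IsOpen U' := c.left.isOpenEmbedding.isOpen_range.preimage A.ι.continuous
  let O₀ : P₀.Opens := ⟨MoreMor.sectionComponents (pullback.snd pA pA) diag ∩ pullback.fst pA pA ⁻¹' U',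
    hC.inter (hU'.preimage (pullback.fst pA pA).continuous)⟩
  let w₀ : (A : Scheme.{u}) := ⟨w, hwA⟩
  have hw₀ : w₀ ∈ Set.range (O₀.ι ≫ pullback.snd pA pA) := by
    let f' := pullback.snd pA pA
    let μ := pullback.map f' ((A : Scheme.{u}).fromSpecResidueField w₀) pA (S.fromSpecResidueField (pA w₀))
      (pullback.fst pA pA) (Spec.map (pA.residueFieldMap w₀)) pA pullback.condition.symm (by simp)
    have hμ : ∀ z, pA.fiberι (pA w₀) (μ z) = pullback.fst pA pA (f'.fiberι w₀ z) := fun z =>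
      congrArg (fun m : f'.fiber w₀ ⟶ (A : Scheme.{u}) => m z)
        (pullback.lift_fst _ _ _ : μ ≫ pA.fiberι (pA w₀) = f'.fiberι w₀ ≫ pullback.fst pA pA)
    haveI : UniversallyOpen μ :=
      MorphismProperty.of_isPullback
        (isPullback_fiberToSpecResidueField_of_isPullback (IsPullback.of_hasPullback pA pA) w₀).flip inferInstance
    let D : Set (f'.fiber w₀) := f'.fiberι w₀ ⁻¹' MoreMor.sectionComponents f' diag
    obtain ⟨d₀, hd₀⟩ : diag w₀ ∈ Set.range (f'.fiberι w₀) := by
      rw [f'.range_fiberι]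
      exact SteinConn.apply_section f' diag hdiag w₀
    have hd₀D : d₀ ∈ D := by
      show f'.fiberι w₀ d₀ ∈ MoreMor.sectionComponents f' diag
      rw [hd₀]
      exact (GenIrredLib.mem_sectionComponents_of_mem f' diag
        (mem_connectedComponentIn (SteinConn.apply_section f' diag hdiag w₀))).1
    obtain ⟨Oa, hOa, hOe⟩ := (pA.fiberι (pA w₀)).isEmbedding.isInducing.isOpen_iff.1
      (μ.isOpenMap D (hC.preimage (f'.fiberι w₀).continuous))
    let a := pA.fiberι (pA w₀) (μ d₀)
    have haO : a ∈ Oa := (Set.ext_iff.1 hOe (μ d₀)).2 ⟨d₀, hd₀D, rfl⟩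
    have haf : pA a = pA w₀ := (Set.ext_iff.1 (pA.range_fiberι (pA w₀)) a).1 ⟨_, rfl⟩
    obtain ⟨_, ⟨y, hyA, rfl⟩, hyr, hyf⟩ := mem_closure_iff.1 (mem_closure_trace j f hd W (A.ι a))
      (A.ι '' Oa) (A.ι.isOpenEmbedding.isOpenMap _ hOa) ⟨a, haO, rfl⟩
    have hys : pA y = pA w₀ := hyf.trans haf
    obtain ⟨v, rfl⟩ : y ∈ Set.range (pA.fiberι (pA w₀)) := by rw [pA.range_fiberι]; exact hys
    obtain ⟨d, hdD, rfl⟩ := (Set.ext_iff.1 hOe v).1 hyA
    refine ⟨⟨f'.fiberι w₀ d, hdD, ?_⟩, ?_⟩
    · show A.ι (pullback.fst pA pA (f'.fiberι w₀ d)) ∈ Set.range c.left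
      rw [← hμ]
      exact hyr
    · exact (Set.ext_iff.1 (f'.range_fiberι w₀) _).1 ⟨d, rfl⟩
  haveI : Smooth (O₀.ι ≫ pullback.snd pA pA) := inferInstance
  obtain ⟨T, r, τ₀, hr, hrt, h, hh⟩ := S0412.result (O₀.ι ≫ pullback.snd pA pA) w₀ hw₀
  haveI := hr
  let q₁ : T ⟶ (A : Scheme.{u}) := h ≫ O₀.ι ≫ pullback.fst pA pA
  have hq₁ : Set.range (q₁ ≫ A.ι) ⊆ Set.range c.left := by
    rintro _ ⟨z, rfl⟩
    exact (h z).2.2
  let u : T ⟶ WU.left := IsOpenImmersion.lift c.left (q₁ ≫ A.ι) hq₁
  have hu : u ≫ c.left = q₁ ≫ A.ι := IsOpenImmersion.lift_fac _ _ _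
  obtain ⟨Nσ, gσ, nσ, V, b, t₀, hnσ, eσ⟩ := exists_local_form f F σ (u τ₀)
  haveI := etale_left gσ
  obtain ⟨tz₀, htz₀, -⟩ := Scheme.Pullback.exists_preimage_pullback τ₀ nσ hnσ.symm
  haveI : Etale (pullback.fst u gσ.left) := MorphismProperty.pullback_fst _ _ ‹_›
  let T' := pullback u gσ.left
  let a : T' ⟶ (A : Scheme.{u}) := pullback.fst u gσ.left ≫ r
  haveI : Etale a := inferInstance
  let N : X.Etale := Scheme.Etale.mk ((a ≫ A.ι) ≫ W.hom)
  let g : N ⟶ W := MorphismProperty.Over.homMk (a ≫ A.ι) rfl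
  let m : T' ⟶ V.left := pullback.snd u gσ.left ≫ b.left ≫ bcFst f V
  have hbV : (b.left ≫ bcFst f V) ≫ V.hom = Nσ.hom ≫ f := by
    rw [Category.assoc, bcFst, pullback.condition, ← Category.assoc]
    exact congrArg (· ≫ f) (MorphismProperty.Over.w b)
  have hqr : q₁ ≫ pA = r ≫ pA := by
    show (h ≫ O₀.ι ≫ pullback.fst pA pA) ≫ pA = r ≫ pA
    rw [← hh, Category.assoc, Category.assoc, pullback.condition, Category.assoc, Category.assoc]
  have hcw : c.left ≫ W.hom = WU.hom := MorphismProperty.Over.w c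
  have hgσw : gσ.left ≫ WU.hom = Nσ.hom := MorphismProperty.Over.w gσ
  have hm : m ≫ V.hom = N.hom ≫ f := by
    show (pullback.snd u gσ.left ≫ b.left ≫ bcFst f V) ≫ V.hom = ((a ≫ A.ι) ≫ W.hom) ≫ f
    rw [Category.assoc, hbV, ← hgσw, Category.assoc, ← pullback.condition_assoc, ← hcw, Category.assoc,
      reassoc_of% hu]
    show pullback.fst u gσ.left ≫ q₁ ≫ pA = ((a ≫ A.ι) ≫ W.hom) ≫ f
    rw [hqr]
    simp only [a, pA, Category.assoc]
  let β : N ⟶ (EtCoh.bc f).obj V := MorphismProperty.Over.homMk (pullback.lift m N.hom hm) (pullback.lift_snd _ _ _)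
  refine ⟨N, g, tz₀, G.obj.map β.op (unitSec f F V t₀), ?_, ?_⟩
  · show (a ≫ A.ι) tz₀ = w
    rw [Scheme.Hom.comp_apply, show a tz₀ = w₀ from (Scheme.Hom.comp_apply _ _ _).trans
      ((congrArg r htz₀).trans hrt)]
    rfl
  let NU := tr j N
  let cN : NU ⟶ N := trIncl j N
  refine HensH0.eq_of_agree G fun z => ?_
  let BV := (EtCoh.bc f).obj V
  let Q := HensH0.prod2 WU BV
  let E₁ := G.obj.map (HensH0.fst2 WU BV).op σ
  let E₂ := G.obj.map (HensH0.snd2 WU BV).op (unitSec f F V t₀)
  -- the relative source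
  let p' : T' ⟶ S := a ≫ pA
  let PT := pullback pA p'
  let s₂ : PT ⟶ T' := pullback.snd pA p'
  haveI : Smooth s₂ := MorphismProperty.pullback_snd (P := @Smooth) _ _ ‹_›
  let sec : T' ⟶ PT := pullback.lift a (𝟙 _) (Category.id_comp _).symm
  have hsec : sec ≫ s₂ = 𝟙 _ := pullback.lift_snd _ _ _
  let PU : PT.Opens := ⟨pullback.fst pA p' ⁻¹' U', hU'.preimage (pullback.fst pA p').continuous⟩
  let φ : (PU : Scheme.{u}) ⟶ WU.left := IsOpenImmersion.lift c.left (PU.ι ≫ pullback.fst pA p' ≫ A.ι) (by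
    rintro _ ⟨y, rfl⟩
    exact y.2)
  have hφ : φ ≫ c.left = PU.ι ≫ pullback.fst pA p' ≫ A.ι := IsOpenImmersion.lift_fac _ _ _
  have hψ : (PU.ι ≫ s₂ ≫ m) ≫ V.hom = (φ ≫ WU.hom) ≫ f := by
    rw [Category.assoc, Category.assoc, hm, ← hcw, ← Category.assoc φ, hφ]
    show PU.ι ≫ s₂ ≫ ((a ≫ A.ι) ≫ W.hom) ≫ f = _
    simp only [Category.assoc]
    rw [show A.ι ≫ W.hom ≫ f = pA from rfl, show s₂ ≫ a ≫ pA = pullback.fst pA p' ≫ pA from pullback.condition.symm]
  let Θ : (PU : Scheme.{u}) ⟶ Q.left :=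
    pullback.lift φ (pullback.lift (PU.ι ≫ s₂ ≫ m) (φ ≫ WU.hom) hψ) (pullback.lift_snd _ _ _).symm
  -- the two points of the fibre over the image of `z`
  let tz : T' := cN.left z
  have hP₁ : pullback.fst u gσ.left ≫ q₁ ≫ pA = 𝟙 _ ≫ p' := by
    rw [Category.id_comp, hqr]
    exact (Category.assoc _ _ _).symm
  let θ₁' : T' ⟶ PT := pullback.lift (pullback.fst u gσ.left ≫ q₁) (𝟙 _) ((Category.assoc _ _ _).trans hP₁)
  let θ₁ : T' ⟶ (PU : Scheme.{u}) := IsOpenImmersion.lift PU.ι θ₁' (by
    rw [Scheme.Opens.range_ι]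
    rintro _ ⟨y, rfl⟩
    show A.ι (pullback.fst pA p' (θ₁' y)) ∈ Set.range c.left
    rw [← Scheme.Hom.comp_apply θ₁', pullback.lift_fst, Scheme.Hom.comp_apply, ← Scheme.Hom.comp_apply q₁]
    exact hq₁ ⟨_, rfl⟩)
  have hθ₁ : θ₁ ≫ PU.ι = θ₁' := IsOpenImmersion.lift_fac _ _ _
  let θ₂ : NU.left ⟶ (PU : Scheme.{u}) := IsOpenImmersion.lift PU.ι (cN.left ≫ sec) (by
    rw [Scheme.Opens.range_ι]
    rintro _ ⟨y, rfl⟩
    show A.ι (pullback.fst pA p' (sec (cN.left y))) ∈ Set.range c.left
    refine ⟨(trMap j g).left y, ?_⟩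
    exact (congrArg (fun k : tr j N ⟶ W => k.left y) (trIncl_natural j g)).trans
      (congrArg A.ι (congrArg (fun k : T' ⟶ (A : Scheme.{u}) => k (cN.left y))
        (pullback.lift_fst _ _ _ : sec ≫ pullback.fst pA p' = a)).symm))
  have hθ₂ : θ₂ ≫ PU.ι = cN.left ≫ sec := IsOpenImmersion.lift_fac _ _ _
  let L₁ : Nσ ⟶ Q := HensH0.lift2 gσ b
  let L₂ : NU ⟶ Q := HensH0.lift2 (trMap j g) (cN ≫ β)
  have hL₁ : θ₁ ≫ Θ = pullback.snd u gσ.left ≫ L₁.left := by
    have hfst : θ₁ ≫ φ = pullback.snd u gσ.left ≫ gσ.left := by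
      rw [← cancel_mono c.left, Category.assoc, hφ, reassoc_of% hθ₁,
        reassoc_of% (pullback.lift_fst _ _ _ : θ₁' ≫ pullback.fst pA p' = pullback.fst u gσ.left ≫ q₁),
        show q₁ = h ≫ O₀.ι ≫ pullback.fst pA pA from rfl]
      simp only [Category.assoc]
      rw [show h ≫ O₀.ι ≫ pullback.fst pA pA ≫ A.ι = u ≫ c.left by rw [hu]; simp only [q₁, Category.assoc]]
      exact pullback.condition_assoc _
    refine pullback.hom_ext ?_ ?_
    · rw [Category.assoc, pullback.lift_fst, hfst, Category.assoc]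
      exact congrArg (_ ≫ ·) (pullback.lift_fst _ _ _).symm
    · rw [Category.assoc, pullback.lift_snd, Category.assoc]
      refine Eq.trans ?_ (congrArg (pullback.snd u gσ.left ≫ ·) (pullback.lift_snd _ _ _).symm)
      refine pullback.hom_ext ?_ ?_
      · rw [Category.assoc, pullback.lift_fst, reassoc_of% hθ₁,
          reassoc_of% (pullback.lift_snd _ _ _ : θ₁' ≫ s₂ = 𝟙 _)]
        exact (Category.assoc _ _ _).symm
      · rw [Category.assoc, pullback.lift_snd, ← Category.assoc, hfst, Category.assoc, Category.assoc]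
        exact congrArg (_ ≫ ·) (hgσw.trans (MorphismProperty.Over.w b).symm)
  have hL₂ : θ₂ ≫ Θ = L₂.left := by
    have hfst : θ₂ ≫ φ = (trMap j g).left := by
      rw [← cancel_mono c.left, Category.assoc, hφ, reassoc_of% hθ₂,
        reassoc_of% (pullback.lift_fst _ _ _ : sec ≫ pullback.fst pA p' = a)]
      exact (congrArg (fun k : tr j N ⟶ W => k.left) (trIncl_natural j g)).symm
    refine pullback.hom_ext ?_ ?_
    · rw [Category.assoc, pullback.lift_fst, hfst]
      exact (pullback.lift_fst _ _ _).symm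
    · rw [Category.assoc, pullback.lift_snd]
      refine Eq.trans ?_ (pullback.lift_snd _ _ _).symm
      refine pullback.hom_ext ?_ ?_
      · rw [Category.assoc, pullback.lift_fst, reassoc_of% hθ₂,
          reassoc_of% (hsec : sec ≫ s₂ = 𝟙 _)]
        exact ((Category.assoc _ _ _).trans (congrArg (cN.left ≫ ·) (pullback.lift_fst _ _ _))).symm
      · rw [Category.assoc, pullback.lift_snd, ← Category.assoc, hfst]
        exact (MorphismProperty.Over.w (trMap j g)).trans (MorphismProperty.Over.w (cN ≫ β)).symm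
  -- the connected set
  let K := connectedComponentIn (s₂ ⁻¹' {tz}) (sec tz)
  let K' : Set (PU : Scheme.{u}) := PU.ι ⁻¹' K
  have hK : _root_.IsPreconnected K' := by
    refine PU.ι.isOpenEmbedding.isInducing.isPreconnected_image.1 ?_
    rw [Set.image_preimage_eq_inter_range, Scheme.Opens.range_ι]
    have h := SmoothSecLib.isPreconnected_componentIn_inter s₂ (sec tz) PU.2
    rw [SteinConn.apply_section s₂ sec hsec tz] at h
    exact h
  have hsub : Θ '' K' ⊆ agree G.obj E₁ E₂ := by
    refine subset_agree f F E₁ E₂ (hK.image Θ Θ.continuous.continuousOn) (x := p' tz) ?_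
      ⟨Θ (θ₁ tz), ⟨θ₁ tz, ?_, rfl⟩, ?_⟩
    · rintro _ ⟨y, hy, rfl⟩
      have hy' : s₂ (PU.ι y) = tz := connectedComponentIn_subset (s₂ ⁻¹' {tz}) _ hy
      have e : Θ ≫ Q.hom ≫ f = (PU.ι ≫ s₂) ≫ p' := by
        show Θ ≫ (pullback.fst WU.hom BV.hom ≫ WU.hom) ≫ f = _
        rw [Category.assoc, pullback.lift_fst_assoc, ← Category.assoc φ, ← hψ, Category.assoc, Category.assoc, hm,
          Category.assoc]
        show PU.ι ≫ s₂ ≫ ((a ≫ A.ι) ≫ W.hom) ≫ f = PU.ι ≫ s₂ ≫ a ≫ A.ι ≫ W.hom ≫ f
        simp only [Category.assoc]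
      rw [← hy']
      exact congrArg (fun k : (PU : Scheme.{u}) ⟶ S => k y) e
    · show PU.ι (θ₁ tz) ∈ K
      rw [← Scheme.Hom.comp_apply, hθ₁]
      let π : PT ⟶ P₀ := pullback.lift (pullback.fst pA p') (s₂ ≫ a)
        (pullback.condition.trans (Category.assoc _ _ _).symm)
      have hπ : IsPullback π s₂ (pullback.snd pA pA) a := by
        refine IsPullback.of_right ?_ (pullback.lift_snd _ _ _) (IsPullback.of_hasPullback pA pA)
        rw [show π ≫ pullback.fst pA pA = pullback.fst pA p' from pullback.lift_fst _ _ _]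
        exact IsPullback.of_hasPullback pA p'
      have hbc := SteinConn.sectionComponents_baseChange (pullback.snd pA pA) diag hdiag s₂ π a hπ sec hsec (by
        refine pullback.hom_ext ?_ ?_
        · rw [Category.assoc, Category.assoc, pullback.lift_fst, pullback.lift_fst, pullback.lift_fst,
            Category.comp_id]
        · rw [Category.assoc, Category.assoc, pullback.lift_snd, pullback.lift_snd, reassoc_of% hsec,
            Category.comp_id])
      have hπθ : θ₁' ≫ π = pullback.fst u gσ.left ≫ h ≫ O₀.ι := by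
        refine pullback.hom_ext ?_ ?_
        · rw [Category.assoc, pullback.lift_fst, pullback.lift_fst]
          simp only [q₁, Category.assoc]
        · rw [Category.assoc, pullback.lift_snd, reassoc_of% (pullback.lift_snd _ _ _ : θ₁' ≫ s₂ = 𝟙 _)]
          show pullback.fst u gσ.left ≫ r = _
          rw [← hh]
          simp only [Category.assoc]
      have hmem : θ₁' tz ∈ MoreMor.sectionComponents s₂ sec := by
        rw [hbc, Set.mem_preimage, ← Scheme.Hom.comp_apply, hπθ]
        exact (h (pullback.fst u gσ.left tz)).2.1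
      have := GenIrredLib.mem_component_of_mem s₂ sec hmem
      rwa [show s₂ (θ₁' tz) = tz by
        rw [← Scheme.Hom.comp_apply, show θ₁' ≫ s₂ = 𝟙 _ from pullback.lift_snd _ _ _]; rfl] at this
    · have e : Θ (θ₁ tz) = L₁.left (pullback.snd u gσ.left tz) := by
        rw [← Scheme.Hom.comp_apply, hL₁, Scheme.Hom.comp_apply]
      rw [e]
      refine (HensH0.mem_agree_iff_locus G σ (unitSec f F V t₀) gσ b _).1 ?_
      rw [eσ]
      exact Set.mem_iUnion.2 ⟨Nσ, Set.mem_iUnion.2 ⟨𝟙 _, Set.mem_iUnion.2 ⟨rfl, ⟨_, rfl⟩⟩⟩⟩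
  have hz : Θ (θ₂ z) ∈ agree G.obj E₁ E₂ := by
    refine hsub ⟨θ₂ z, ?_, rfl⟩
    show PU.ι (θ₂ z) ∈ K
    rw [← Scheme.Hom.comp_apply, hθ₂, Scheme.Hom.comp_apply]
    exact mem_connectedComponentIn (SteinConn.apply_section s₂ sec hsec tz)
  rw [← Scheme.Hom.comp_apply, hL₂] at hz
  have h2 := (HensH0.mem_agree_iff_locus G σ (unitSec f F V t₀) (trMap j g) (cN ≫ β) z).2 hz
  refine HensH0.agree_symm G ?_
  have e : G.obj.map (cN ≫ β).op (unitSec f F V t₀) = G.obj.map cN.op (G.obj.map β.op (unitSec f F V t₀)) := by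
    rw [op_comp, Functor.map_comp_apply]
  rw [← e]
  exact h2

include hd in
theorem surjective_restrict (W : X.Etale) :
    Function.Surjective (((EtCoh.pull f).obj F).obj.map (trIncl j W).op) := by
  intro σ
  let G := (EtCoh.pull f).obj F
  let R : Sieve W :=
    { arrows := fun N g => ∃ τ, G.obj.map (trIncl j N).op τ = G.obj.map (trMap j g).op σ
      downward_closed := fun {N M g} ⟨τ, hτ⟩ k => ⟨G.obj.map k.op τ, by
        rw [← Functor.map_comp_apply, ← op_comp, ← trIncl_natural, op_comp, Functor.map_comp_apply]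
        refine (congrArg (G.obj.map (trMap j k).op) hτ).trans ?_
        rw [← Functor.map_comp_apply, ← op_comp]
        congr 2
        simp only [trMap, Functor.map_comp]⟩ }
  have hR : R ∈ X.smallEtaleTopology W := detects X R fun x l => by
    obtain ⟨N, g, n, τ, hn, hτ⟩ := exists_local_extension j f F hd W σ (liftHom _ l default)
    obtain ⟨z, hz⟩ := exists_fiber_map_eq _ g l n hn
    exact ⟨N, g, ⟨τ, hτ⟩, z, hz⟩
  let GT := (sheafCompose X.smallEtaleTopology (forget AddCommGrpCat.{u + 1})).obj G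
  have hG := (isSheaf_iff_isSheaf_of_type _ _).1 GT.property _ hR
  let x : Presieve.FamilyOfElements GT.obj R.arrows := fun N g hg => hg.choose
  have hx : ∀ {N : X.Etale} (g : N ⟶ W) (hg : R g),
      G.obj.map (trIncl j N).op (x g hg) = G.obj.map (trMap j g).op σ := fun g hg => hg.choose_spec
  have hc : x.Compatible := by
    intro Y₁ Y₂ Z a₁ a₂ f₁ f₂ h₁ h₂ e
    refine injective_restrict j f F hd Z ?_
    show G.obj.map (trIncl j Z).op (G.obj.map a₁.op (x f₁ h₁)) = G.obj.map (trIncl j Z).op (G.obj.map a₂.op (x f₂ h₂))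
    rw [← Functor.map_comp_apply, ← Functor.map_comp_apply, ← op_comp, ← op_comp, ← trIncl_natural, ← trIncl_natural,
      op_comp, op_comp, Functor.map_comp_apply, Functor.map_comp_apply, hx f₁ h₁, hx f₂ h₂,
      ← Functor.map_comp_apply, ← Functor.map_comp_apply, ← op_comp, ← op_comp]
    congr 2
    simp only [trMap, ← Functor.map_comp, e]
  refine ⟨hG.amalgamate x hc, HensH0.eq_of_agree G fun z => ?_⟩
  obtain ⟨N, g, n, τ, hn, hτ⟩ := exists_local_extension j f F hd W σ ((trIncl j W).left z)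
  haveI := isOpenImmersion_trIncl j W
  have hgn : W.hom (g.left n) = j (pullback.snd W.hom j z) := by
    rw [hn, trIncl_left]
    exact congrArg (fun k : pullback W.hom j ⟶ X => k z) pullback.condition
  have hNn : N.hom n = j (pullback.snd W.hom j z) := by
    rw [← MorphismProperty.Over.w g]
    exact (Scheme.Hom.comp_apply _ _ _).trans hgn
  obtain ⟨z', hz'₁, -⟩ := Scheme.Pullback.exists_preimage_pullback n (pullback.snd W.hom j z) hNn
  refine Set.mem_iUnion.2 ⟨tr j N, Set.mem_iUnion.2 ⟨trMap j g, Set.mem_iUnion.2 ⟨?_, z', ?_⟩⟩⟩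
  · refine Eq.trans ?_ hτ
    have hv := hG.valid_glue hc g ⟨τ, hτ⟩
    have hτ' : x g ⟨τ, hτ⟩ = τ := injective_restrict j f F hd N ((hx g ⟨τ, hτ⟩).trans hτ.symm)
    rw [← Functor.map_comp_apply, ← op_comp, trIncl_natural, op_comp, Functor.map_comp_apply]
    exact congrArg (G.obj.map (trIncl j N).op) (hv.trans hτ')
  · refine (trIncl j W).left.isOpenEmbedding.injective ?_
    rw [← Scheme.Hom.comp_apply]
    refine (congrArg (fun k : tr j N ⟶ W => k.left z') (trIncl_natural j g)).trans ?_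
    show g.left ((trIncl j N).left z') = (trIncl j W).left z
    refine Eq.trans (congrArg g.left ?_) hn
    rw [trIncl_left]
    exact hz'₁

include hd in
/-- For smooth `f` and an open dense in every fibre, `f^* F` is the direct image of its restriction. -/
theorem isIso_unit : IsIso ((EtCoh.pullPushAdj j).unit.app ((EtCoh.pull f).obj F)) := by
  haveI : EtShriek.JCont j := EtJCont.jCont j
  exact isIso_unit_of_bijective j _ fun W => ⟨injective_restrict j f F hd W, surjective_restrict j f F hd W⟩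

end Groth.Agent.DenseUnitLib
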